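import Mathlib

/-!
# Three colours

For a primitive group of permutations of order divisible by the prime `p` some colouring of the points with
three colours has a stabiliser of index divisible by `p` (from S3513, taken as the hypothesis `Pow`).
-/

set_option autoImplicit false

open MulAction Equiv Equiv.Perm

namespace Cfsg.Agent.H229.NX

/-- one half of S3513 -/
def Pow : Prop := ∀ (n : ℕ) (H : Subgroup (Equiv.Perm (Fin n))), MulAction.IsPreprimitive H (Fin n) →
  ∀ p : ℕ, p.Prime → p ∣ Nat.card H →
    (∀ s : Set (Fin n), ¬ p ∣ Nat.card {t : Set (Fin n) // ∃ h ∈ H, t = h '' s}) →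
    ((alternatingGroup (Fin n) ≤ H) ∨
     (n = 8 ∧ p = 3 ∧ (Nat.card H = 1344 ∨ Nat.card H = 168)) ∨
     (n = 5 ∧ p = 2 ∧ Nat.card H = 10))

/-- the stabiliser of a colouring -/
def colStab (G : Type*) [Group G] {Ω C : Type*} [MulAction G Ω] (c : Ω → C) : Subgroup G where
  carrier := {g | ∀ ω, c (g • ω) = c ω}
  one_mem' := fun ω => by rw [one_smul]
  mul_mem' := by
    intro a b ha hb ω
    rw [mul_smul, ha, hb]
  inv_mem' := by
    intro a ha ω
    have h := ha (a⁻¹ • ω)
    rw [smul_inv_smul] at h
    exact h.symm

theorem mem_colStab {G : Type*} [Group G] {Ω C : Type*} [MulAction G Ω] {c : Ω → C} {g : G} :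
    g ∈ colStab G c ↔ ∀ ω, c (g • ω) = c ω := Iff.rfl

/-- orbit-stabiliser for sets -/
theorem index_colStab_set {n : ℕ} (H : Subgroup (Perm (Fin n))) (s : Set (Fin n)) (a b : Fin 3)
    (hab : a ≠ b) : (colStab H (fun i => by classical exact if i ∈ s then a else b)).index =
      Nat.card {t : Set (Fin n) // ∃ h ∈ H, t = h '' s} := by
  classical
  set K := colStab H (fun i => if i ∈ s then a else b) with hK
  have hmem : ∀ g : H, g ∈ K ↔ (g : Perm (Fin n)) '' s = s := by
    intro g
    rw [hK, mem_colStab]
    constructor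
    · intro h
      have h1 : ∀ i, (g : Perm (Fin n)) i ∈ s ↔ i ∈ s := by
        intro i
        have h2 := h i
        have h3 : g • i = (g : Perm (Fin n)) i := rfl
        rw [h3] at h2
        by_cases h4 : (g : Perm (Fin n)) i ∈ s <;> by_cases h5 : i ∈ s <;> simp_all
      ext j
      constructor
      · rintro ⟨i, hi, rfl⟩
        exact (h1 i).2 hi
      · intro hj
        refine ⟨(g : Perm (Fin n))⁻¹ j, ?_, by simp⟩
        rw [← h1]
        simpa using hj
    · intro h i
      have h3 : g • i = (g : Perm (Fin n)) i := rfl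
      rw [h3]
      have h1 : (g : Perm (Fin n)) i ∈ s ↔ i ∈ s := by
        constructor
        · intro h2
          rw [← h] at h2
          obtain ⟨j, hj, h4⟩ := h2
          rw [← (g : Perm (Fin n)).injective h4]
          exact hj
        · intro h2
          rw [← h]
          exact ⟨i, h2, rfl⟩
      simp only [h1]
  rw [Subgroup.index]
  refine Nat.card_congr (Equiv.ofBijective
    (Quotient.lift (fun g : H => (⟨(g : Perm (Fin n)) '' s, g, g.2, rfl⟩ :
      {t : Set (Fin n) // ∃ h ∈ H, t = h '' s})) ?_) ⟨?_, ?_⟩)
  · intro g h hgh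
    have h1 : g⁻¹ * h ∈ K := QuotientGroup.leftRel_apply.1 hgh
    rw [hmem] at h1
    apply Subtype.ext
    show (g : Perm (Fin n)) '' s = (h : Perm (Fin n)) '' s
    nth_rewrite 1 [← h1]
    rw [← Set.image_comp]
    congr 1
    funext x
    simp
  · intro x y
    refine Quotient.inductionOn₂ x y ?_
    intro g h hgh
    apply Quotient.sound
    apply QuotientGroup.leftRel_apply.2
    rw [hmem]
    have h1 : (g : Perm (Fin n)) '' s = (h : Perm (Fin n)) '' s := congrArg Subtype.val hgh
    have h2 : ((g⁻¹ * h : H) : Perm (Fin n)) '' s = (⇑((g : Perm (Fin n))⁻¹)) '' ((h : Perm (Fin n)) '' s) := by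
      rw [← Set.image_comp]
      rfl
    rw [h2, ← h1, ← Set.image_comp]
    ext x
    simp
  · rintro ⟨t, h, hh, rfl⟩
    exact ⟨Quotient.mk _ ⟨h, hh⟩, rfl⟩

/-- a transposition commuting with the colouring brings the alternating group to the symmetric group -/
theorem index_of_alternating {n : ℕ} {C : Type*} (H : Subgroup (Perm (Fin n)))
    (hA : alternatingGroup (Fin n) ≤ H) (c : Fin n → C)
    (ht : H = ⊤ ∨ ∃ t : Perm (Fin n), sign t = -1 ∧ ∀ i, c (t i) = c i) :
    (colStab H c).index = (colStab (Perm (Fin n)) c).index := by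
  classical
  set Y := colStab (Perm (Fin n)) c with hY
  have : IsPretransitive H (Perm (Fin n) ⧸ Y) := by
    constructor
    intro x y
    refine QuotientGroup.induction_on x ?_
    intro g
    refine QuotientGroup.induction_on y ?_
    intro h
    rcases ht with rfl | ⟨t, ht, htc⟩
    · refine ⟨⟨h * g⁻¹, trivial⟩, ?_⟩
      show ((h * g⁻¹ * g : Perm (Fin n)) : Perm (Fin n) ⧸ Y) = h
      rw [inv_mul_cancel_right]
    · by_cases hs : sign (h * g⁻¹) = 1
      · refine ⟨⟨h * g⁻¹, hA (mem_alternatingGroup.2 hs)⟩, ?_⟩
        show ((h * g⁻¹ * g : Perm (Fin n)) : Perm (Fin n) ⧸ Y) = h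
        rw [inv_mul_cancel_right]
      · have hs2 : sign (h * g⁻¹) = -1 := (Int.units_eq_one_or _).resolve_left hs
        have hs' : sign (h * t * g⁻¹) = 1 := by
          rw [Equiv.Perm.sign_mul] at hs2
          rw [Equiv.Perm.sign_mul, Equiv.Perm.sign_mul, ht, mul_assoc, mul_comm (-1 : ℤˣ), ← mul_assoc, hs2]
          norm_num
        refine ⟨⟨h * t * g⁻¹, hA (mem_alternatingGroup.2 hs')⟩, ?_⟩
        show ((h * t * g⁻¹ * g : Perm (Fin n)) : Perm (Fin n) ⧸ Y) = h
        rw [inv_mul_cancel_right]
        apply QuotientGroup.eq.2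
        have : (h * t)⁻¹ * h = t⁻¹ := by group
        rw [this]
        exact Y.inv_mem (mem_colStab.2 htc)
  have h1 := MulAction.index_stabilizer_of_transitive H ((1 : Perm (Fin n)) : Perm (Fin n) ⧸ Y)
  have h2 : stabilizer H ((1 : Perm (Fin n)) : Perm (Fin n) ⧸ Y) = colStab H c := by
    ext g
    rw [MulAction.mem_stabilizer_iff, mem_colStab]
    have h3 : g • ((1 : Perm (Fin n)) : Perm (Fin n) ⧸ Y) = ((g : Perm (Fin n)) : Perm (Fin n) ⧸ Y) := by
      show (((g : Perm (Fin n)) * 1 : Perm (Fin n)) : Perm (Fin n) ⧸ Y) = _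
      rw [mul_one]
    rw [h3]
    constructor
    · intro h
      have h4 := QuotientGroup.eq.1 h
      rw [mul_one] at h4
      have h5 := Y.inv_mem h4
      rw [inv_inv] at h5
      exact fun i => h5 i
    · intro h
      apply QuotientGroup.eq.2
      rw [mul_one]
      exact Y.inv_mem h
  rw [← h2, h1]
  rfl

/-- the colouring with classes of sizes `p - 1`, `1`, `n - p` -/
def col (n p : ℕ) : Fin n → Fin 3 := fun i => if (i : ℕ) < p - 1 then 0 else if (i : ℕ) = p - 1 then 1 else 2

theorem card_col {n p : ℕ} (hp : 1 ≤ p) (hpn : p ≤ n) :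
    Nat.card (colStab (Perm (Fin n)) (col n p)) = (p - 1).factorial * (n - p).factorial := by
  classical
  have h1 := DomMulAct.stabilizer_card (α := Fin n) (ι := Fin 3) (col n p)
  have h2 : Nat.card (colStab (Perm (Fin n)) (col n p)) =
      Fintype.card {g : Perm (Fin n) // (col n p) ∘ g = col n p} := by
    rw [← Nat.card_eq_fintype_card]
    refine Nat.card_congr (Equiv.subtypeEquivRight ?_)
    intro g
    constructor
    · intro h
      funext i
      exact h i
    · intro h i
      exact congrFun h i
  rw [h2, h1, Fin.prod_univ_three]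
  have e0 : Fintype.card {a // col n p a = 0} = p - 1 := by
    rw [Fintype.card_subtype]
    have : (Finset.univ.filter fun a => col n p a = 0) = Finset.univ.filter (fun a : Fin n => (a : ℕ) < p - 1) := by
      ext a
      rw [Finset.mem_filter, Finset.mem_filter]
      refine and_congr_right fun _ => ?_
      simp only [col]
      constructor
      · intro h
        by_contra h3
        rw [if_neg h3] at h
        split_ifs at h
        · exact absurd h (by decide)
        · exact absurd h (by decide)
      · intro h
        rw [if_pos h]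
    rw [this]
    rw [Fin.card_filter_val_lt]
    omega
  have e1 : Fintype.card {a // col n p a = 1} = 1 := by
    rw [Fintype.card_eq_one_iff]
    refine ⟨⟨⟨p - 1, by omega⟩, by simp [col]⟩, ?_⟩
    rintro ⟨a, ha⟩
    apply Subtype.ext
    apply Fin.ext
    simp only [col] at ha
    split_ifs at ha with h3 h4
    · exact absurd ha (by decide)
    · exact h4
    · exact absurd ha (by decide)
  have e2 : Fintype.card {a // col n p a = 2} = n - p := by
    have hsum : ∑ i : Fin 3, Fintype.card {a // col n p a = i} = n := by
      rw [← Fintype.card_sigma, Fintype.card_congr (Equiv.sigmaFiberEquiv (col n p)), Fintype.card_fin]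
    rw [Fin.sum_univ_three, e0, e1] at hsum
    omega
  rw [e0, e1, e2, Nat.factorial_one, mul_one]

theorem dvd_index_col {n p : ℕ} (hp : 1 ≤ p) (hpn : p ≤ n) :
    p ∣ (colStab (Perm (Fin n)) (col n p)).index := by
  have h1 := Subgroup.index_mul_card (colStab (Perm (Fin n)) (col n p))
  rw [card_col hp hpn, Nat.card_perm, Nat.card_fin] at h1
  have h2 := Nat.factorial_mul_descFactorial hpn
  rw [Nat.descFactorial_eq_factorial_mul_choose] at h2
  have h3 : p.factorial = p * (p - 1).factorial := (Nat.mul_factorial_pred (by omega)).symm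
  rw [h3] at h2
  refine ⟨n.choose p, ?_⟩
  have h4 : 0 < (p - 1).factorial * (n - p).factorial := by positivity
  apply Nat.eq_of_mul_eq_mul_right h4
  rw [h1, ← h2]
  ring

/-- an element of prime order moving fewer than `2p` points is a `p`-cycle -/
theorem cycleType_of_support {n p : ℕ} (hp : p.Prime) {g : Perm (Fin n)} (hg : orderOf g = p)
    (hs : g.support.card < 2 * p) : g.cycleType = {p} := by
  obtain ⟨m, hm⟩ := cycleType_prime_order (σ := g) (by rw [hg]; exact hp)
  have h1 : g.cycleType.sum = g.support.card := sum_cycleType g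
  rw [hm, hg, Multiset.sum_replicate, smul_eq_mul] at h1
  have h2 : m = 0 := by
    by_contra h
    have : 2 * p ≤ (m + 1) * p := Nat.mul_le_mul_right p (by omega)
    omega
  rw [hm, h2, hg]
  rfl

theorem exists_orderOf_of_not_dvd_index {G : Type*} [Group G] [Finite G] {p : ℕ} (hp : p.Prime)
    (hd : p ∣ Nat.card G) {K : Subgroup G} (hK : ¬ p ∣ K.index) : ∃ g ∈ K, orderOf g = p := by
  have := Fact.mk hp
  have h1 : p ∣ Nat.card K := by
    rw [← K.card_mul_index] at hd
    exact (hp.dvd_mul.1 hd).resolve_right hK
  obtain ⟨g, hg⟩ := exists_prime_orderOf_dvd_card' p h1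
  exact ⟨g, g.2, by rw [Subgroup.orderOf_coe]; exact hg⟩

theorem label_prim (P : Pow) (n : ℕ) (H : Subgroup (Perm (Fin n))) (hprim : IsPreprimitive H (Fin n))
    (p : ℕ) (hp : p.Prime) (hdiv : p ∣ Nat.card H) : ∃ c : Fin n → Fin 3, p ∣ (colStab H c).index := by
  classical
  by_contra hcon
  push Not at hcon
  have h1 : ∀ s : Set (Fin n), ¬ p ∣ Nat.card {t : Set (Fin n) // ∃ h ∈ H, t = h '' s} := by
    intro s
    rw [← index_colStab_set H s 0 1 (by decide)]
    exact hcon _
  have hpn : p ≤ n := by
    have h2 : p ∣ n.factorial := by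
      have h3 := H.card_subgroup_dvd_card
      rw [Nat.card_perm, Nat.card_fin] at h3
      exact hdiv.trans h3
    exact (Nat.Prime.dvd_factorial hp).1 h2
  rcases P n H hprim p hp hdiv h1 with hA | ⟨rfl, rfl, hc⟩ | ⟨rfl, rfl, hc⟩
  · refine hcon (col n p) ?_
    rw [index_of_alternating H hA]
    · exact dvd_index_col hp.one_lt.le hpn
    · by_cases hbig : 3 ≤ p
      · right
        refine ⟨swap ⟨0, by omega⟩ ⟨1, by omega⟩, sign_swap (by simp), ?_⟩
        intro i
        by_cases h0 : i = ⟨0, by omega⟩
        · rw [h0, swap_apply_left]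
          simp only [col]
          rw [if_pos (by omega), if_pos (by omega)]
        · by_cases h2 : i = ⟨1, by omega⟩
          · rw [h2, swap_apply_right]
            simp only [col]
            rw [if_pos (by omega), if_pos (by omega)]
          · rw [swap_apply_of_ne_of_ne h0 h2]
      · have hp2 : p = 2 := le_antisymm (by omega) hp.two_le
        subst hp2
        by_cases hn : 4 ≤ n
        · right
          refine ⟨swap ⟨2, by omega⟩ ⟨3, by omega⟩, sign_swap (by simp), ?_⟩
          intro i
          by_cases h0 : i = ⟨2, by omega⟩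
          · rw [h0, swap_apply_left]
            simp [col]
          · by_cases h2 : i = ⟨3, by omega⟩
            · rw [h2, swap_apply_right]
              simp [col]
            · rw [swap_apply_of_ne_of_ne h0 h2]
        · left
          -- `n ≤ 3`: the order of the alternating group is odd
          by_contra hne
          have h4 : (alternatingGroup (Fin n)).relIndex H * H.index = (alternatingGroup (Fin n)).index :=
            Subgroup.relIndex_mul_index hA
          have : Nontrivial (Fin n) := Fin.nontrivial_iff_two_le.2 hpn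
          rw [alternatingGroup.index_eq_two] at h4
          have h5 : H.index ≠ 1 := fun h => hne (Subgroup.index_eq_one.1 h)
          have h6 : H.index = 2 := by
            have : H.index ∣ 2 := ⟨_, by rw [← h4, mul_comm]⟩
            exact ((Nat.dvd_prime Nat.prime_two).1 this).resolve_left h5
          have h7 := H.index_mul_card
          rw [h6, Nat.card_perm, Nat.card_fin] at h7
          have hn' : n = 2 ∨ n = 3 := by omega
          rcases hn' with rfl | rfl
          · rw [show Nat.factorial 2 = 2 from rfl] at h7
            omega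
          · rw [show Nat.factorial 3 = 6 from rfl] at h7
            omega
  · -- degree 8
    have h2 := hcon (fun i : Fin 8 => if i = 0 then 0 else if i = 1 ∨ i = 2 then 1 else 2)
    obtain ⟨g, hgK, hg⟩ := exists_orderOf_of_not_dvd_index hp hdiv h2
    rw [mem_colStab] at hgK
    have hgK' : ∀ i : Fin 8, (if (g : Perm (Fin 8)) i = 0 then (0 : Fin 3) else
        if (g : Perm (Fin 8)) i = 1 ∨ (g : Perm (Fin 8)) i = 2 then 1 else 2) =
        if i = 0 then (0 : Fin 3) else if i = 1 ∨ i = 2 then 1 else 2 := fun i => hgK i
    have hg' : orderOf (g : Perm (Fin 8)) = 3 := by rw [Subgroup.orderOf_coe]; exact hg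
    have hg3 : (g : Perm (Fin 8)) ^ 3 = 1 := by rw [← hg']; exact pow_orderOf_eq_one _
    set σ := (g : Perm (Fin 8)) with hσ
    have f0 : σ 0 = 0 := by
      have := hgK' 0
      by_contra hne
      simp only [hne, if_false, if_true] at this
      split_ifs at this
      · exact absurd this (by decide)
      · exact absurd this (by decide)
    have hmem : ∀ i : Fin 8, (i = 1 ∨ i = 2) → (σ i = 1 ∨ σ i = 2) := by
      intro i hi
      have := hgK' i
      have hi0 : i ≠ 0 := by rcases hi with rfl | rfl <;> decide
      rw [if_neg hi0, if_pos hi] at this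
      by_contra hne
      split_ifs at this
      · exact absurd this (by decide)
      · exact absurd this (by decide)
    have h33 : ∀ i, σ (σ (σ i)) = i := by
      intro i
      have := congrArg (fun τ : Perm (Fin 8) => τ i) hg3
      simpa [pow_succ, Perm.mul_apply] using this
    have f1 : σ 1 = 1 := by
      rcases hmem 1 (Or.inl rfl) with h | h
      · exact h
      · exfalso
        rcases hmem 2 (Or.inr rfl) with h' | h'
        · have := h33 1
          rw [h, h', h] at this
          exact absurd this (by decide)
        · have := σ.injective (h.trans h'.symm)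
          exact absurd this (by decide)
    have f2 : σ 2 = 2 := by
      rcases hmem 2 (Or.inr rfl) with h | h
      · exact absurd (σ.injective (h.trans f1.symm)) (by decide)
      · exact h
    have hsup : σ.support.card < 2 * 3 := by
      have : σ.support ⊆ {3, 4, 5, 6, 7} := by
        intro i hi
        rw [mem_support] at hi
        fin_cases i <;> simp_all
      exact (Finset.card_le_card this).trans_lt (by decide)
    have hct := cycleType_of_support Nat.prime_three hg' hsup
    have h3 : alternatingGroup (Fin 8) ≤ H :=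
      alternatingGroup_le_of_isPreprimitive_of_isThreeCycle_mem hprim hct g.2
    have h4 := Subgroup.card_dvd_of_le h3
    have h5 : Nat.card (alternatingGroup (Fin 8)) * 2 = 40320 := by
      have := Subgroup.card_mul_index (alternatingGroup (Fin 8))
      rw [alternatingGroup.index_eq_two, Nat.card_perm, Nat.card_fin] at this
      simpa [Nat.factorial] using this
    have h6 : Nat.card (alternatingGroup (Fin 8)) = 20160 := by omega
    rw [h6] at h4
    rcases hc with hc | hc <;> rw [hc] at h4 <;> exact absurd h4 (by decide)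
  · -- degree 5
    have h2 := hcon (fun i : Fin 5 => if i = 0 then 0 else if i = 1 then 1 else 2)
    obtain ⟨g, hgK, hg⟩ := exists_orderOf_of_not_dvd_index hp hdiv h2
    rw [mem_colStab] at hgK
    have hgK' : ∀ i : Fin 5, (if (g : Perm (Fin 5)) i = 0 then (0 : Fin 3) else
        if (g : Perm (Fin 5)) i = 1 then 1 else 2) =
        if i = 0 then (0 : Fin 3) else if i = 1 then 1 else 2 := fun i => hgK i
    have hg' : orderOf (g : Perm (Fin 5)) = 2 := by rw [Subgroup.orderOf_coe]; exact hg
    set σ := (g : Perm (Fin 5)) with hσ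
    have f0 : σ 0 = 0 := by
      have := hgK' 0
      by_contra hne
      simp only [hne, if_false, if_true] at this
      split_ifs at this
      · exact absurd this (by decide)
      · exact absurd this (by decide)
    have f1 : σ 1 = 1 := by
      have h5 := hgK' 1
      by_contra hne
      have hne0 : σ 1 ≠ 0 := fun h => by
        have := σ.injective (h.trans f0.symm)
        exact absurd this (by decide)
      rw [if_neg hne0, if_neg hne, if_neg (by decide), if_pos rfl] at h5
      exact absurd h5 (by decide)
    have hsup : σ.support.card < 2 * 2 := by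
      have : σ.support ⊆ {2, 3, 4} := by
        intro i hi
        rw [mem_support] at hi
        fin_cases i <;> simp_all
      exact (Finset.card_le_card this).trans_lt (by decide)
    have hct := cycleType_of_support Nat.prime_two hg' hsup
    have hsw : IsSwap σ := by
      rw [← card_support_eq_two, ← sum_cycleType, hct]
      rfl
    have h3 : H = ⊤ := subgroup_eq_top_of_isPreprimitive_of_isSwap_mem hprim σ hsw g.2
    rw [h3, Subgroup.card_top, Nat.card_perm, Nat.card_fin] at hc
    exact absurd hc (by decide)

/-- For a transitive action of a group all of whose proper normal subgroups have index divisible by `p`, some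
colouring with three colours has a stabiliser of index divisible by `p`. -/
theorem label (P : Pow) {G Ω : Type*} [Group G] [Finite G] [MulAction G Ω] [IsPretransitive G Ω]
    [Nontrivial Ω] {p : ℕ} (hp : p.Prime) (hN : ∀ N : Subgroup G, N.Normal → N ≠ ⊤ → p ∣ N.index) :
    ∃ c : Ω → Fin 3, p ∣ (colStab G c).index := by
  classical
  obtain ⟨ω₀, ω₁, h01⟩ := exists_pair_ne Ω
  have hst : stabilizer G ω₀ ≠ ⊤ := by
    intro h
    obtain ⟨g, hg⟩ := exists_smul_eq G ω₀ ω₁
    have h1 : g ∈ stabilizer G ω₀ := by rw [h]; trivial
    exact h01 ((mem_stabilizer_iff.1 h1).symm.trans hg)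
  obtain ⟨M, hM, hle⟩ := (IsCoatomic.eq_top_or_exists_le_coatom (stabilizer G ω₀)).resolve_left hst
  have hnt : Nontrivial (G ⧸ M) := by
    obtain ⟨g, hg⟩ : ∃ g : G, g ∉ M := by
      by_contra hcon
      push Not at hcon
      exact hM.1 (eq_top_iff.2 fun g _ => hcon g)
    refine ⟨((1 : G) : G ⧸ M), ((g : G) : G ⧸ M), ?_⟩
    intro h
    have := QuotientGroup.eq.1 h
    rw [inv_one, one_mul] at this
    exact hg this
  have hprim : IsPreprimitive G (G ⧸ M) := by
    rw [← isCoatom_stabilizer_iff_preprimitive G ((1 : G) : G ⧸ M), stabilizer_quotient]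
    exact hM
  obtain ⟨n, ⟨e⟩⟩ := Finite.exists_equiv_fin (G ⧸ M)
  let φ : G →* Perm (Fin n) := (e.permCongrHom : Perm (G ⧸ M) →* Perm (Fin n)).comp (toPermHom G (G ⧸ M))
  have hφ : ∀ g x, φ g (e x) = e (g • x) := by
    intro g x
    show e ((toPerm g : Perm (G ⧸ M)) (e.symm (e x))) = _
    rw [e.symm_apply_apply]
    rfl
  let f : (G ⧸ M) →ₑ[φ.rangeRestrict] Fin n :=
    { toFun := e
      map_smul' := by
        intro g x
        show e (g • x) = φ g (e x)
        exact (hφ g x).symm }
  have hprim' : IsPreprimitive φ.range (Fin n) := IsPreprimitive.of_surjective (f := f) e.surjective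
  have hker : φ.ker ≠ ⊤ := by
    intro h
    obtain ⟨x, y, hxy⟩ := hnt
    obtain ⟨g, hg⟩ := exists_smul_eq G x y
    have h1 : g ∈ φ.ker := by rw [h]; trivial
    have h2 := hφ g x
    rw [MonoidHom.mem_ker.1 h1, hg] at h2
    exact hxy (e.injective h2)
  have hcard : p ∣ Nat.card φ.range := by
    have h1 := hN φ.ker inferInstance hker
    rwa [Subgroup.index_ker] at h1
  obtain ⟨c, hc⟩ := label_prim P n φ.range hprim' p hp hcard
  -- the equivariant map
  have hch : ∀ ω : Ω, ∃ g : G, g • ω₀ = ω := fun ω => exists_smul_eq G ω₀ ω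
  choose s hs using hch
  have hπ : ∀ (g : G) (ω : Ω), ((s (g • ω) : G) : G ⧸ M) = g • ((s ω : G) : G ⧸ M) := by
    intro g ω
    show _ = ((g * s ω : G) : G ⧸ M)
    apply QuotientGroup.eq.2
    apply hle
    rw [mem_stabilizer_iff, mul_smul, mul_smul, hs ω, inv_smul_eq_iff, hs]
  refine ⟨fun ω => c (e ((s ω : G) : G ⧸ M)), ?_⟩
  have hsurj : ∀ x : G ⧸ M, ∃ ω : Ω, ((s ω : G) : G ⧸ M) = x := by
    intro x
    refine QuotientGroup.induction_on x ?_
    intro g
    refine ⟨g • ω₀, ?_⟩
    apply QuotientGroup.eq.2
    apply hle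
    rw [mem_stabilizer_iff, mul_smul, inv_smul_eq_iff, hs]
  have hcomap : colStab G (fun ω => c (e ((s ω : G) : G ⧸ M))) =
      (colStab φ.range c).comap φ.rangeRestrict := by
    ext g
    rw [Subgroup.mem_comap, mem_colStab, mem_colStab]
    constructor
    · intro h i
      obtain ⟨x, rfl⟩ := e.surjective i
      obtain ⟨ω, rfl⟩ := hsurj x
      have h1 := h ω
      rw [hπ, ← hφ] at h1
      exact h1
    · intro h ω
      have h1 := h (e ((s ω : G) : G ⧸ M))
      show c (e ((s (g • ω) : G) : G ⧸ M)) = c (e ((s ω : G) : G ⧸ M))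
      rw [hπ, ← hφ]
      exact h1
  rw [hcomap, Subgroup.index_comap_of_surjective _ φ.rangeRestrict_surjective]
  exact hc

end Cfsg.Agent.H229.NX
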