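import Mathlib
import Cfsg.Agent.H229.NX.Label

/-!
# Three colours, with classes of unequal sizes
-/

set_option autoImplicit false
set_option linter.style.haveILetI false

open MulAction Equiv Equiv.Perm

namespace Cfsg.Agent.H229.NX

/-- the three classes of a colouring do not have the same size -/
def Uneq {Ω : Type*} (c : Ω → Fin 3) : Prop :=
  ¬ ∀ a b : Fin 3, Nat.card {i // c i = a} = Nat.card {i // c i = b}

theorem uneq_col {n p : ℕ} (hp : 3 ≤ p) (hpn : p ≤ n) : Uneq (col n p) := by
  intro h
  have h1 := h 0 1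
  have e1 : Nat.card {a // col n p a = 1} = 1 := by
    rw [Nat.card_eq_fintype_card, Fintype.card_eq_one_iff]
    refine ⟨⟨⟨p - 1, by omega⟩, by simp [col]⟩, ?_⟩
    rintro ⟨a, ha⟩
    apply Subtype.ext
    apply Fin.ext
    simp only [col] at ha
    split_ifs at ha with h3 h4
    · exact absurd ha (by decide)
    · exact h4
    · exact absurd ha (by decide)
  rw [e1, Nat.card_eq_fintype_card, Fintype.card_eq_one_iff] at h1
  obtain ⟨x, hx⟩ := h1
  have h2 := hx ⟨⟨0, by omega⟩, by simp only [col]; rw [if_pos (by omega)]⟩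
  have h3 := hx ⟨⟨1, by omega⟩, by simp only [col]; rw [if_pos (by omega)]⟩
  have h4 := congrArg (fun y => (Subtype.val y : Fin n)) (h2.trans h3.symm)
  have h5 := congrArg Fin.val h4
  simp at h5

theorem uneq_two {n : ℕ} (hn : 0 < n) (s : Set (Fin n)) :
    Uneq (fun i : Fin n => by classical exact if i ∈ s then (0 : Fin 3) else 1) := by
  classical
  intro h
  have h2 : Nat.card {i : Fin n // (if i ∈ s then (0 : Fin 3) else 1) = 2} = 0 := by
    rw [Nat.card_eq_zero]
    left
    constructor
    rintro ⟨i, hi⟩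
    split_ifs at hi
    · exact absurd hi (by decide)
    · exact absurd hi (by decide)
  have h3 : ∀ i : Fin n, False := by
    intro i
    by_cases hi : i ∈ s
    · have h4 := h 0 2
      rw [h2, Nat.card_eq_zero] at h4
      rcases h4 with h4 | h4
      · exact h4.false ⟨i, if_pos hi⟩
      · exact h4.not_finite inferInstance
    · have h4 := h 1 2
      rw [h2, Nat.card_eq_zero] at h4
      rcases h4 with h4 | h4
      · exact h4.false ⟨i, if_neg hi⟩
      · exact h4.not_finite inferInstance
  exact h3 ⟨0, hn⟩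

theorem label_prim_uneq (P : Pow) (n : ℕ) (H : Subgroup (Perm (Fin n))) (hprim : IsPreprimitive H (Fin n))
    (p : ℕ) (hp : p.Prime) (hp2 : p ≠ 2) (hdiv : p ∣ Nat.card H) :
    ∃ c : Fin n → Fin 3, p ∣ (colStab H c).index ∧ Uneq c := by
  classical
  by_contra hcon
  push Not at hcon
  have hpn : p ≤ n := by
    have h2 : p ∣ n.factorial := by
      have h3 := H.card_subgroup_dvd_card
      rw [Nat.card_perm, Nat.card_fin] at h3
      exact hdiv.trans h3
    exact (Nat.Prime.dvd_factorial hp).1 h2
  have hp3 : 3 ≤ p := by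
    have := hp.two_le
    omega
  have h1 : ∀ s : Set (Fin n), ¬ p ∣ Nat.card {t : Set (Fin n) // ∃ h ∈ H, t = h '' s} := by
    intro s hs
    rw [← index_colStab_set H s 0 1 (by decide)] at hs
    exact hcon _ hs (uneq_two (by omega) s)
  rcases P n H hprim p hp hdiv h1 with hA | ⟨rfl, rfl, hc⟩ | ⟨rfl, rfl, hc⟩
  · refine hcon (col n p) ?_ (uneq_col hp3 hpn)
    rw [index_of_alternating H hA]
    · exact dvd_index_col hp.one_lt.le hpn
    · right
      refine ⟨swap ⟨0, by omega⟩ ⟨1, by omega⟩, sign_swap (by simp), ?_⟩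
      intro i
      by_cases h0 : i = ⟨0, by omega⟩
      · rw [h0, swap_apply_left]
        simp only [col]
        rw [if_pos (by omega), if_pos (by omega)]
      · by_cases h2 : i = ⟨1, by omega⟩
        · rw [h2, swap_apply_right]
          simp only [col]
          rw [if_pos (by omega), if_pos (by omega)]
        · rw [swap_apply_of_ne_of_ne h0 h2]
  · -- degree 8
    have huneq : Uneq (fun i : Fin 8 => if i = 0 then (0 : Fin 3) else if i = 1 ∨ i = 2 then 1 else 2) := by
      intro h
      have h2 := h 0 1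
      rw [Nat.card_eq_fintype_card, Nat.card_eq_fintype_card] at h2
      exact absurd h2 (by decide)
    have h2 := fun h => hcon (fun i : Fin 8 => if i = 0 then 0 else if i = 1 ∨ i = 2 then 1 else 2) h huneq
    obtain ⟨g, hgK, hg⟩ := exists_orderOf_of_not_dvd_index hp hdiv h2
    rw [mem_colStab] at hgK
    have hgK' : ∀ i : Fin 8, (if (g : Perm (Fin 8)) i = 0 then (0 : Fin 3) else
        if (g : Perm (Fin 8)) i = 1 ∨ (g : Perm (Fin 8)) i = 2 then 1 else 2) =
        if i = 0 then (0 : Fin 3) else if i = 1 ∨ i = 2 then 1 else 2 := fun i => hgK i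
    have hg' : orderOf (g : Perm (Fin 8)) = 3 := by rw [Subgroup.orderOf_coe]; exact hg
    have hg3 : (g : Perm (Fin 8)) ^ 3 = 1 := by rw [← hg']; exact pow_orderOf_eq_one _
    set σ := (g : Perm (Fin 8)) with hσ
    have f0 : σ 0 = 0 := by
      have := hgK' 0
      by_contra hne
      simp only [hne, if_false, if_true] at this
      split_ifs at this
      · exact absurd this (by decide)
      · exact absurd this (by decide)
    have hmem : ∀ i : Fin 8, (i = 1 ∨ i = 2) → (σ i = 1 ∨ σ i = 2) := by
      intro i hi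
      have := hgK' i
      have hi0 : i ≠ 0 := by rcases hi with rfl | rfl <;> decide
      rw [if_neg hi0, if_pos hi] at this
      by_contra hne
      split_ifs at this
      · exact absurd this (by decide)
      · exact absurd this (by decide)
    have h33 : ∀ i, σ (σ (σ i)) = i := by
      intro i
      have := congrArg (fun τ : Perm (Fin 8) => τ i) hg3
      simpa [pow_succ, Perm.mul_apply] using this
    have f1 : σ 1 = 1 := by
      rcases hmem 1 (Or.inl rfl) with h | h
      · exact h
      · exfalso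
        rcases hmem 2 (Or.inr rfl) with h' | h'
        · have := h33 1
          rw [h, h', h] at this
          exact absurd this (by decide)
        · have := σ.injective (h.trans h'.symm)
          exact absurd this (by decide)
    have f2 : σ 2 = 2 := by
      rcases hmem 2 (Or.inr rfl) with h | h
      · exact absurd (σ.injective (h.trans f1.symm)) (by decide)
      · exact h
    have hsup : σ.support.card < 2 * 3 := by
      have : σ.support ⊆ {3, 4, 5, 6, 7} := by
        intro i hi
        rw [mem_support] at hi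
        fin_cases i <;> simp_all
      exact (Finset.card_le_card this).trans_lt (by decide)
    have hct := cycleType_of_support Nat.prime_three hg' hsup
    have h3 : alternatingGroup (Fin 8) ≤ H :=
      alternatingGroup_le_of_isPreprimitive_of_isThreeCycle_mem hprim hct g.2
    have h4 := Subgroup.card_dvd_of_le h3
    have h5 : Nat.card (alternatingGroup (Fin 8)) * 2 = 40320 := by
      have := Subgroup.card_mul_index (alternatingGroup (Fin 8))
      rw [alternatingGroup.index_eq_two, Nat.card_perm, Nat.card_fin] at this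
      simpa [Nat.factorial] using this
    have h6 : Nat.card (alternatingGroup (Fin 8)) = 20160 := by omega
    rw [h6] at h4
    rcases hc with hc | hc <;> rw [hc] at h4 <;> exact absurd h4 (by decide)
  · exact hp2 rfl

/-- The fibres of an equivariant map between transitive sets all have the same size. -/
theorem card_fiber {G Ω B : Type*} [Group G] [MulAction G Ω] [MulAction G B] [IsPretransitive G B]
    (π : Ω → B) (hπ : ∀ (g : G) (ω : Ω), π (g • ω) = g • π ω) (x y : B) :
    Nat.card {ω // π ω = x} = Nat.card {ω // π ω = y} := by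
  obtain ⟨g, rfl⟩ := exists_smul_eq G x y
  refine Nat.card_congr ⟨fun ω => ⟨g • ω.1, by rw [hπ, ω.2]⟩, fun ω => ⟨g⁻¹ • ω.1, by
    rw [hπ, ω.2, inv_smul_smul]⟩, fun ω => ?_, fun ω => ?_⟩
  · exact Subtype.ext (inv_smul_smul g ω.1)
  · exact Subtype.ext (smul_inv_smul g ω.1)

theorem Uneq.comp {G Ω B : Type*} [Group G] [MulAction G Ω] [MulAction G B] [IsPretransitive G B] [Finite B]
    [Finite Ω] {c : B → Fin 3} (hc : Uneq c) (π : Ω → B) (hπ : ∀ (g : G) (ω : Ω), π (g • ω) = g • π ω)
    (ω₀ : Ω) : Uneq (fun ω => c (π ω)) := by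
  classical
  haveI := Fintype.ofFinite B
  intro h
  apply hc
  have h1 : ∀ a, Nat.card {ω // c (π ω) = a} = Nat.card {i // c i = a} * Nat.card {ω // π ω = π ω₀} := by
    intro a
    let e : {ω // c (π ω) = a} ≃ Σ i : {i // c i = a}, {ω // π ω = i.1} :=
      ⟨fun ω => ⟨⟨π ω.1, ω.2⟩, ⟨ω.1, rfl⟩⟩, fun x => ⟨x.2.1, by rw [x.2.2]; exact x.1.2⟩, fun ω => rfl,
        fun x => by
          obtain ⟨⟨i, hi⟩, ⟨ω, hω⟩⟩ := x
          simp only at hω
          subst hω
          rfl⟩
    rw [Nat.card_congr e, Nat.card_sigma]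
    rw [Finset.sum_congr rfl (fun i _ => card_fiber (G := G) π hπ i.1 (π ω₀)), Finset.sum_const,
      smul_eq_mul, Finset.card_univ, ← Nat.card_eq_fintype_card]
  have h2 : 0 < Nat.card {ω // π ω = π ω₀} := by
    haveI : Nonempty {ω // π ω = π ω₀} := ⟨⟨ω₀, rfl⟩⟩
    exact Nat.card_pos
  intro a b
  have h3 := h a b
  rw [h1, h1] at h3
  exact Nat.eq_of_mul_eq_mul_right h2 h3

/-- For a transitive action of a group all of whose proper normal subgroups have index divisible by `p`, some
colouring with three colours of unequal sizes has a stabiliser of index divisible by `p`. -/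
theorem label_uneq (P : Pow) {G Ω : Type*} [Group G] [Finite G] [MulAction G Ω] [IsPretransitive G Ω]
    [Finite Ω] [Nontrivial Ω] {p : ℕ} (hp : p.Prime) (hp2 : p ≠ 2)
    (hN : ∀ N : Subgroup G, N.Normal → N ≠ ⊤ → p ∣ N.index) :
    ∃ c : Ω → Fin 3, p ∣ (colStab G c).index ∧ Uneq c := by
  classical
  obtain ⟨ω₀, ω₁, h01⟩ := exists_pair_ne Ω
  have hst : stabilizer G ω₀ ≠ ⊤ := by
    intro h
    obtain ⟨g, hg⟩ := exists_smul_eq G ω₀ ω₁
    have h1 : g ∈ stabilizer G ω₀ := by rw [h]; trivial
    exact h01 ((mem_stabilizer_iff.1 h1).symm.trans hg)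
  obtain ⟨M, hM, hle⟩ := (IsCoatomic.eq_top_or_exists_le_coatom (stabilizer G ω₀)).resolve_left hst
  have hnt : Nontrivial (G ⧸ M) := by
    obtain ⟨g, hg⟩ : ∃ g : G, g ∉ M := by
      by_contra hcon
      push Not at hcon
      exact hM.1 (eq_top_iff.2 fun g _ => hcon g)
    refine ⟨((1 : G) : G ⧸ M), ((g : G) : G ⧸ M), ?_⟩
    intro h
    have := QuotientGroup.eq.1 h
    rw [inv_one, one_mul] at this
    exact hg this
  have hprim : IsPreprimitive G (G ⧸ M) := by
    rw [← isCoatom_stabilizer_iff_preprimitive G ((1 : G) : G ⧸ M), stabilizer_quotient]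
    exact hM
  obtain ⟨n, ⟨e⟩⟩ := Finite.exists_equiv_fin (G ⧸ M)
  let φ : G →* Perm (Fin n) := (e.permCongrHom : Perm (G ⧸ M) →* Perm (Fin n)).comp (toPermHom G (G ⧸ M))
  have hφ : ∀ g x, φ g (e x) = e (g • x) := by
    intro g x
    show e ((toPerm g : Perm (G ⧸ M)) (e.symm (e x))) = _
    rw [e.symm_apply_apply]
    rfl
  let f : (G ⧸ M) →ₑ[φ.rangeRestrict] Fin n :=
    { toFun := e
      map_smul' := by
        intro g x
        show e (g • x) = φ g (e x)
        exact (hφ g x).symm }
  have hprim' : IsPreprimitive φ.range (Fin n) := IsPreprimitive.of_surjective (f := f) e.surjective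
  have hker : φ.ker ≠ ⊤ := by
    intro h
    obtain ⟨x, y, hxy⟩ := hnt
    obtain ⟨g, hg⟩ := exists_smul_eq G x y
    have h1 : g ∈ φ.ker := by rw [h]; trivial
    have h2 := hφ g x
    rw [MonoidHom.mem_ker.1 h1, hg] at h2
    exact hxy (e.injective h2)
  have hcard : p ∣ Nat.card φ.range := by
    have h1 := hN φ.ker inferInstance hker
    rwa [Subgroup.index_ker] at h1
  obtain ⟨c, hc, hcu⟩ := label_prim_uneq P n φ.range hprim' p hp hp2 hcard
  -- the equivariant map
  have hch : ∀ ω : Ω, ∃ g : G, g • ω₀ = ω := fun ω => exists_smul_eq G ω₀ ω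
  choose s hs using hch
  have hπ : ∀ (g : G) (ω : Ω), ((s (g • ω) : G) : G ⧸ M) = g • ((s ω : G) : G ⧸ M) := by
    intro g ω
    show _ = ((g * s ω : G) : G ⧸ M)
    apply QuotientGroup.eq.2
    apply hle
    rw [mem_stabilizer_iff, mul_smul, mul_smul, hs ω, inv_smul_eq_iff, hs]
  have hcu' : Uneq (fun x : G ⧸ M => c (e x)) := by
    intro h
    apply hcu
    have h1 : ∀ a, Nat.card {x : G ⧸ M // c (e x) = a} = Nat.card {i // c i = a} := fun a =>
      Nat.card_congr (Equiv.subtypeEquiv e (fun x => Iff.rfl))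
    intro a b
    rw [← h1, ← h1]
    exact h a b
  refine ⟨fun ω => c (e ((s ω : G) : G ⧸ M)), ?_, hcu'.comp (G := G) _ hπ ω₀⟩
  have hsurj : ∀ x : G ⧸ M, ∃ ω : Ω, ((s ω : G) : G ⧸ M) = x := by
    intro x
    refine QuotientGroup.induction_on x ?_
    intro g
    refine ⟨g • ω₀, ?_⟩
    apply QuotientGroup.eq.2
    apply hle
    rw [mem_stabilizer_iff, mul_smul, inv_smul_eq_iff, hs]
  have hcomap : colStab G (fun ω => c (e ((s ω : G) : G ⧸ M))) =
      (colStab φ.range c).comap φ.rangeRestrict := by
    ext g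
    rw [Subgroup.mem_comap, mem_colStab, mem_colStab]
    constructor
    · intro h i
      obtain ⟨x, rfl⟩ := e.surjective i
      obtain ⟨ω, rfl⟩ := hsurj x
      have h1 := h ω
      rw [hπ, ← hφ] at h1
      exact h1
    · intro h ω
      have h1 := h (e ((s ω : G) : G ⧸ M))
      show c (e ((s (g • ω) : G) : G ⧸ M)) = c (e ((s ω : G) : G ⧸ M))
      rw [hπ, ← hφ]
      exact h1
  rw [hcomap, Subgroup.index_comap_of_surjective _ φ.rangeRestrict_surjective]
  exact hc

end Cfsg.Agent.H229.NX
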