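import Mathlib

/-!
# Matrix units in the algebra generated by a group with scalar centre
-/

set_option autoImplicit false
set_option linter.unusedSectionVars false
set_option linter.style.haveILetI false

namespace Cfsg.Agent.H229.NX

section semi

variable {F V L : Type*} [Field F] [AddCommGroup V] [Module F V] [Group L]

/-- The algebra generated by a representation. -/
def alg (ρ : L →* Module.End F V) : Subalgebra F (Module.End F V) := Algebra.adjoin F (Set.range ρ)

theorem mem_alg (ρ : L →* Module.End F V) (g : L) : ρ g ∈ alg ρ := Algebra.subset_adjoin ⟨g, rfl⟩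

/-- A subspace stable under the group is stable under the algebra. -/
theorem alg_stable (ρ : L →* Module.End F V) {U : Submodule F V} (hU : ∀ g, ∀ x ∈ U, ρ g x ∈ U)
    {r : Module.End F V} (hr : r ∈ alg ρ) {x : V} (hx : x ∈ U) : r x ∈ U := by
  induction hr using Algebra.adjoin_induction generalizing x with
  | mem s hs =>
    obtain ⟨g, rfl⟩ := hs
    exact hU g x hx
  | algebraMap a => exact U.smul_mem a hx
  | add a b _ _ ha hb => exact U.add_mem (ha hx) (hb hx)
  | mul a b _ _ ha hb => exact ha (hb hx)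

/-- An operator commuting with the group commutes with the algebra. -/
theorem alg_commute (ρ : L →* Module.End F V) {z : Module.End F V} (hz : ∀ g, z * ρ g = ρ g * z)
    {r : Module.End F V} (hr : r ∈ alg ρ) : z * r = r * z := by
  induction hr using Algebra.adjoin_induction with
  | mem s hs =>
    obtain ⟨g, rfl⟩ := hs
    exact hz g
  | algebraMap a => exact (Algebra.commutes a z).symm
  | add a b _ _ ha hb => rw [mul_add, add_mul, ha, hb]
  | mul a b _ _ ha hb => rw [← mul_assoc, ha, mul_assoc, hb, mul_assoc]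

theorem isSemisimpleRing_alg [Finite L] (ρ : L →* Module.End F V) (hL : (Nat.card L : F) ≠ 0) :
    IsSemisimpleRing (alg ρ) := by
  haveI : NeZero (Nat.card L : F) := ⟨hL⟩
  let f : MonoidAlgebra F L →ₐ[F] Module.End F V := MonoidAlgebra.lift F (Module.End F V) L ρ
  have hf1 : ∀ g, f (MonoidAlgebra.of F L g) = ρ g := fun g => MonoidAlgebra.lift_of _ _
  have h1 : alg ρ ≤ f.range := by
    refine Algebra.adjoin_le ?_
    rintro _ ⟨g, rfl⟩
    exact ⟨MonoidAlgebra.of F L g, hf1 g⟩
  have h2 : ∀ x, f x ∈ alg ρ := by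
    intro x
    induction x using MonoidAlgebra.induction_on with
    | of g => rw [hf1]; exact mem_alg ρ g
    | add a b ha hb => rw [map_add]; exact add_mem ha hb
    | smul a b hb => rw [map_smul]; exact (alg ρ).smul_mem hb a
  let f' : MonoidAlgebra F L →ₐ[F] alg ρ := f.codRestrict (alg ρ) h2
  refine RingHom.isSemisimpleRing_of_surjective f'.toRingHom ?_
  rintro ⟨r, hr⟩
  obtain ⟨x, hx⟩ := h1 hr
  exact ⟨x, Subtype.ext hx⟩

/-- A semisimple algebra with scalar centre is a matrix algebra. -/
theorem exists_matrix {A : Type*} [Ring A] [Algebra F A] [Finite A] [Nontrivial A] [IsSemisimpleRing A]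
    (hcen : ∀ z : A, (∀ r, z * r = r * z) → ∃ f : F, z = algebraMap F A f) :
    ∃ n : ℕ, NeZero n ∧ Nonempty (A ≃ₐ[F] Matrix (Fin n) (Fin n) F) := by
  classical
  obtain ⟨n, D, d, iD, iA, hd, ⟨φ⟩⟩ := IsSemisimpleRing.exists_algEquiv_pi_matrix_divisionRing F A
  haveI : ∀ i, NeZero (d i) := hd
  -- there is only one factor
  have hn : 0 < n := by
    rcases Nat.eq_zero_or_pos n with rfl | h
    · exfalso
      obtain ⟨a, b, hab⟩ := exists_pair_ne A
      exact hab (φ.injective (Subsingleton.elim _ _))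
    · exact h
  have h1 : ∀ i j : Fin n, i = j := by
    intro i j
    by_contra hij
    let c : ∀ k, Matrix (Fin (d k)) (Fin (d k)) (D k) := Pi.single i 1
    have hc : ∀ x, c * x = x * c := by
      intro x
      funext k
      by_cases hk : k = i
      · subst hk
        simp [c]
      · simp [c, Pi.single_eq_of_ne hk]
    obtain ⟨f, hf⟩ := hcen (φ.symm c) (fun r => by
      apply φ.injective
      rw [map_mul, map_mul, AlgEquiv.apply_symm_apply, hc])
    have hf2 : c = algebraMap F _ f := by
      rw [← AlgEquiv.commutes φ f, ← hf, AlgEquiv.apply_symm_apply]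
    have h3 : c i = algebraMap F _ f := by rw [hf2]; rfl
    have h4 : c j = algebraMap F _ f := by rw [hf2]; rfl
    have h5 : c j = 0 := Pi.single_eq_of_ne (Ne.symm hij) _
    have h6 : c i = 1 := Pi.single_eq_same _ _
    have h7 : f = 0 := by
      rw [h5] at h4
      exact (map_eq_zero_iff (algebraMap F (Matrix (Fin (d j)) (Fin (d j)) (D j)))
        (algebraMap F _).injective).1 h4.symm
    rw [h6, h7, map_zero] at h3
    exact one_ne_zero h3
  let i0 : Fin n := ⟨0, hn⟩
  let ψ : A ≃ₐ[F] Matrix (Fin (d i0)) (Fin (d i0)) (D i0) :=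
    AlgEquiv.ofBijective ((Pi.evalAlgHom F (fun i => Matrix (Fin (d i)) (Fin (d i)) (D i)) i0).comp
      (φ : A →ₐ[F] _)) ⟨fun a b hab => φ.injective (funext fun k => by
        obtain rfl := h1 k i0
        exact hab), fun x => by
        obtain ⟨a, ha⟩ := φ.surjective (Pi.single i0 x)
        refine ⟨a, ?_⟩
        change φ a i0 = x
        rw [ha, Pi.single_eq_same]⟩
  -- the division ring is finite, hence commutative, hence equal to `F`
  haveI : Finite (D i0) := by
    haveI : Finite (Matrix (Fin (d i0)) (Fin (d i0)) (D i0)) := Finite.of_equiv A ψ.toEquiv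
    exact Finite.of_injective (fun x : D i0 => Matrix.scalar (Fin (d i0)) x) (fun x y h =>
      Matrix.scalar_inj.1 h)
  have hcomm : ∀ x y : D i0, x * y = y * x := fun x y => (littleWedderburn (D i0)).mul_comm x y
  have hsurj : ∀ x : D i0, ∃ f : F, x = algebraMap F (D i0) f := by
    intro x
    obtain ⟨f, hf⟩ := hcen (ψ.symm (Matrix.scalar (Fin (d i0)) x)) (fun r => by
      apply ψ.injective
      rw [map_mul, map_mul, AlgEquiv.apply_symm_apply]
      exact Matrix.scalar_commute x (fun y => hcomm x y) _)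
    refine ⟨f, ?_⟩
    have h2 : Matrix.scalar (Fin (d i0)) x = algebraMap F (Matrix (Fin (d i0)) (Fin (d i0)) (D i0)) f := by
      rw [← AlgEquiv.commutes ψ f, ← hf, AlgEquiv.apply_symm_apply]
    have h3 := congrFun (congrFun h2 0) 0
    simpa [Matrix.algebraMap_matrix_apply] using h3
  let e0 : F ≃ₐ[F] D i0 := AlgEquiv.ofBijective (Algebra.ofId F (D i0))
    ⟨(algebraMap F (D i0)).injective, fun x => by
      obtain ⟨f, hf⟩ := hsurj x
      exact ⟨f, hf.symm⟩⟩
  exact ⟨d i0, hd i0, ⟨ψ.trans e0.symm.mapMatrix⟩⟩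

/-- Matrix units `e = e₀₀`, `u = e₁₀`, `u' = e₀₁` of the algebra generated by a representation. -/
structure MU (ρ : L →* Module.End F V) (e u u' : Module.End F V) : Prop where
  eA : e ∈ alg ρ
  uA : u ∈ alg ρ
  uA' : u' ∈ alg ρ
  ee : e * e = e
  eu : e * u = 0
  uu : u' * u = e
  corner : ∀ r ∈ alg ρ, ∃ f : F, e * r * e = f • e
  faith : ∀ U : Submodule F V, (∀ g, ∀ x ∈ U, ρ g x ∈ U) → (∀ x ∈ U, e x = 0) → U = ⊥

theorem exists_mu [Finite L] [Finite V] [Nontrivial V] (ρ : L →* Module.End F V) (hL : (Nat.card L : F) ≠ 0)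
    (hcen : ∀ z ∈ alg ρ, (∀ g, z * ρ g = ρ g * z) → ∃ f : F, z = algebraMap F _ f)
    (hnc : ∃ a b, ρ a * ρ b ≠ ρ b * ρ a) : ∃ e u u', MU ρ e u u' := by
  classical
  haveI := isSemisimpleRing_alg ρ hL
  haveI : Finite (Module.End F V) := Finite.of_injective (fun f => (f : V → V)) DFunLike.coe_injective
  haveI : Finite (alg ρ) := inferInstance
  haveI : Nontrivial (alg ρ) := inferInstance
  obtain ⟨n, hn, ⟨φ⟩⟩ := exists_matrix (F := F) (A := alg ρ) (by
    rintro ⟨z, hz⟩ h
    obtain ⟨f, hf⟩ := hcen z hz (fun g => congrArg Subtype.val (h ⟨ρ g, mem_alg ρ g⟩))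
    exact ⟨f, Subtype.ext hf⟩)
  have hn2 : 2 ≤ n := by
    by_contra hlt
    have hn1 : n = 1 := by
      have := hn.out
      omega
    subst hn1
    obtain ⟨a, b, hab⟩ := hnc
    apply hab
    have h1 : (⟨ρ a, mem_alg ρ a⟩ : alg ρ) * ⟨ρ b, mem_alg ρ b⟩ = ⟨ρ b, mem_alg ρ b⟩ * ⟨ρ a, mem_alg ρ a⟩ := by
      apply φ.injective
      rw [map_mul, map_mul]
      ext i j
      simp [Matrix.mul_apply, Fin.eq_zero i, Fin.eq_zero j, mul_comm]
    exact congrArg Subtype.val h1
  let i0 : Fin n := ⟨0, by omega⟩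
  let i1 : Fin n := ⟨1, by omega⟩
  have h01 : i0 ≠ i1 := by simp [i0, i1]
  let E : Fin n → Fin n → alg ρ := fun i j => φ.symm (Matrix.single i j 1)
  have hmul : ∀ i j k, E i j * E j k = E i k := by
    intro i j k
    apply φ.injective
    simp [E]
  have hmul0 : ∀ i j k l, j ≠ k → E i j * E k l = 0 := by
    intro i j k l hjk
    apply φ.injective
    simp [E, hjk]
  have hone : ∑ k, E k k = 1 := by
    apply φ.injective
    simp only [E, map_sum, AlgEquiv.apply_symm_apply, map_one]
    exact Matrix.sum_single_one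
  refine ⟨E i0 i0, E i1 i0, E i0 i1, (E i0 i0).2, (E i1 i0).2, (E i0 i1).2, ?_, ?_, ?_, ?_, ?_⟩
  · exact congrArg Subtype.val (hmul i0 i0 i0)
  · exact congrArg Subtype.val (hmul0 i0 i0 i1 i0 h01)
  · exact congrArg Subtype.val (hmul i0 i1 i0)
  · intro r hr
    refine ⟨φ ⟨r, hr⟩ i0 i0, ?_⟩
    have h1 : E i0 i0 * ⟨r, hr⟩ * E i0 i0 = φ ⟨r, hr⟩ i0 i0 • E i0 i0 := by
      apply φ.injective
      rw [map_smul, map_mul, map_mul]
      simp only [E, AlgEquiv.apply_symm_apply]
      ext i j
      by_cases hi : i = i0 <;> by_cases hj : j = i0 <;> simp [Matrix.mul_apply, Matrix.single_apply, hi, hj, eq_comm]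
    exact congrArg Subtype.val h1
  · intro U hU he
    rw [eq_bot_iff]
    intro x hx
    rw [Submodule.mem_bot]
    have h1 : x = ∑ k, (E k k : Module.End F V) x := by
      have h2 : ((∑ k, E k k : alg ρ) : Module.End F V) x = x := by rw [hone]; rfl
      rw [AddSubmonoidClass.coe_finsetSum, LinearMap.sum_apply] at h2
      exact h2.symm
    rw [h1]
    refine Finset.sum_eq_zero fun k _ => ?_
    have h3 : (E k k : Module.End F V) = (E k i0 : Module.End F V) * ((E i0 i0 : Module.End F V) *
        (E i0 k : Module.End F V)) := by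
      have := congrArg Subtype.val (show E k k = E k i0 * (E i0 i0 * E i0 k) by rw [hmul, hmul])
      exact this
    rw [h3, Module.End.mul_apply, Module.End.mul_apply, he _ (alg_stable ρ hU (E i0 k).2 hx), map_zero]

end semi

end Cfsg.Agent.H229.NX
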