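import Mathlib
import Cfsg.Agent.H229.NX.Mu

/-!
# A vector recognising a partition of pairwise commuting groups

`L i` (`i ∈ Ω`) are pairwise commuting groups acting `F`-linearly on `V`, with matrix units. For every colouring of `Ω`
there is a vector `v` such that the colour classes are pure for `v` and no pure set splits a colour class.
-/

set_option autoImplicit false
set_option linter.unusedSectionVars false
set_option linter.style.haveILetI false

namespace Cfsg.Agent.H229.NX

section pure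

variable {F V E Ω : Type*} [Field F] [AddCommGroup V] [Module F V] [Group E] (ρ : E →* Module.End F V)
  (L : Ω → Subgroup E)

/-- `U` is stable under the groups with labels in `C`. -/
def St (C : Set Ω) (U : Submodule F V) : Prop := ∀ i ∈ C, ∀ g ∈ L i, ∀ x ∈ U, ρ g x ∈ U

/-- The submodule generated by `v`. -/
def X (C : Set Ω) (v : V) : Submodule F V := sInf {U | St ρ L C U ∧ v ∈ U}

/-- `C` is pure for `v`: `v` generates a simple module for the groups with labels in `C`. -/
def Pure (C : Set Ω) (v : V) : Prop :=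
  v ≠ 0 ∧ ∀ U : Submodule F V, St ρ L C U → U ≤ X ρ L C v → U ≠ ⊥ → v ∈ U

variable {ρ L}

theorem X_le {C : Set Ω} {v : V} {U : Submodule F V} (h1 : St ρ L C U) (h2 : v ∈ U) : X ρ L C v ≤ U :=
  sInf_le ⟨h1, h2⟩

theorem mem_X (C : Set Ω) (v : V) : v ∈ X ρ L C v := by
  rw [X, Submodule.mem_sInf]
  exact fun U hU => hU.2

theorem St_X (C : Set Ω) (v : V) : St ρ L C (X ρ L C v) := by
  intro i hi g hg x hx
  rw [X, Submodule.mem_sInf] at hx ⊢
  exact fun U hU => hU.1 i hi g hg x (hx U hU)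

/-- The algebra generated by `L i`. -/
abbrev A (ρ : E →* Module.End F V) (L : Ω → Subgroup E) (i : Ω) : Subalgebra F (Module.End F V) :=
  alg (ρ.comp (L i).subtype)

theorem St.alg {C : Set Ω} {U : Submodule F V} (hU : St ρ L C U) {i : Ω} (hi : i ∈ C) {r : Module.End F V}
    (hr : r ∈ A ρ L i) {x : V} (hx : x ∈ U) : r x ∈ U :=
  alg_stable (ρ.comp (L i).subtype) (fun g x hx => hU i hi g g.2 x hx) hr hx

variable (ρ L) in
/-- Pairwise commuting groups of operators with matrix units. -/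
structure Sys (e u u' : Ω → Module.End F V) : Prop where
  comm : ∀ i j, i ≠ j → ∀ a ∈ L i, ∀ b ∈ L j, ρ a * ρ b = ρ b * ρ a
  mu : ∀ i, MU (ρ.comp (L i).subtype) (e i) (u i) (u' i)

variable {e u u' : Ω → Module.End F V}

theorem comm_of {z : Module.End F V} {i : Ω} (hz : ∀ a ∈ L i, z * ρ a = ρ a * z) {r : Module.End F V}
    (hr : r ∈ A ρ L i) : z * r = r * z :=
  alg_commute (ρ.comp (L i).subtype) (fun g => hz g g.2) hr

theorem Sys.comm1 (S : Sys ρ L e u u') {i j : Ω} (hij : i ≠ j) {r : Module.End F V} (hr : r ∈ A ρ L i) {b : E}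
    (hb : b ∈ L j) : r * ρ b = ρ b * r :=
  (comm_of (fun a ha => (S.comm i j hij a ha b hb).symm) hr).symm

theorem Sys.comm2 (S : Sys ρ L e u u') {i j : Ω} (hij : i ≠ j) {r s : Module.End F V} (hr : r ∈ A ρ L i)
    (hs : s ∈ A ρ L j) : r * s = s * r :=
  comm_of (fun _ hb => S.comm1 hij hr hb) hs

theorem Sys.exists_fixed (S : Sys ρ L e u u') {C : Set Ω} {U : Submodule F V} (hU : St ρ L C U) (hne : U ≠ ⊥)
    (T : Finset Ω) (hT : ∀ i ∈ T, i ∈ C) : ∃ x ∈ U, x ≠ 0 ∧ ∀ i ∈ T, e i x = x := by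
  classical
  induction T using Finset.induction_on with
  | empty =>
    obtain ⟨x, hx, hx0⟩ := U.ne_bot_iff.1 hne
    exact ⟨x, hx, hx0, fun i hi => by simp at hi⟩
  | insert j T hj ih =>
    obtain ⟨x0, hx0, hx0', hx0T⟩ := ih (fun i hi => hT i (Finset.mem_insert_of_mem hi))
    let W : Submodule F V := U ⊓ ⨅ i ∈ T, LinearMap.ker (e i - 1)
    have hW : ∀ x, x ∈ W ↔ x ∈ U ∧ ∀ i ∈ T, e i x = x := by
      intro x
      simp [W, Submodule.mem_iInf, sub_eq_zero]
    have hjC := hT j (Finset.mem_insert_self j T)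
    have h1 : ∀ g : L j, ∀ x ∈ W, (ρ.comp (L j).subtype) g x ∈ W := by
      intro g x hx
      rw [hW] at hx ⊢
      refine ⟨hU j hjC g g.2 x hx.1, fun i hi => ?_⟩
      have hij : i ≠ j := fun h => hj (h ▸ hi)
      have h2 := LinearMap.congr_fun (S.comm1 hij (S.mu i).eA g.2) x
      rw [Module.End.mul_apply, Module.End.mul_apply, hx.2 i hi] at h2
      exact h2
    have h2 : ∃ x ∈ W, e j x ≠ 0 := by
      by_contra hcon
      push Not at hcon
      have h3 := (S.mu j).faith W h1 hcon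
      have h4 : x0 ∈ W := (hW x0).2 ⟨hx0, hx0T⟩
      rw [h3, Submodule.mem_bot] at h4
      exact hx0' h4
    obtain ⟨x, hx, hxe⟩ := h2
    rw [hW] at hx
    refine ⟨e j x, hU.alg hjC (S.mu j).eA hx.1, hxe, fun i hi => ?_⟩
    rw [Finset.mem_insert] at hi
    rcases hi with rfl | hi
    · exact LinearMap.congr_fun (S.mu i).ee x
    · have hij : i ≠ j := fun h => hj (h ▸ hi)
      have h2 := LinearMap.congr_fun (S.comm2 hij (S.mu i).eA (S.mu j).eA) x
      rw [Module.End.mul_apply, Module.End.mul_apply, hx.2 i hi] at h2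
      exact h2

theorem Sys.corner (S : Sys ρ L e u u') (T : Finset Ω) {w : V} (hw : ∀ i ∈ T, e i w = w) {a : V}
    (ha : a ∈ X ρ L (T : Set Ω) w) (hea : ∀ i ∈ T, e i a = a) : ∃ f : F, a = f • w := by
  classical
  induction T using Finset.induction_on generalizing a with
  | empty =>
    have h1 : a ∈ Submodule.span F {w} := by
      refine X_le ?_ (Submodule.mem_span_singleton_self w) ha
      intro i hi
      simp at hi
    obtain ⟨f, hf⟩ := Submodule.mem_span_singleton.1 h1
    exact ⟨f, hf.symm⟩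
  | insert j T hj ih =>
    let Y : Submodule F V := Submodule.span F {z | ∃ r ∈ A ρ L j, ∃ y ∈ X ρ L (T : Set Ω) w, z = r y}
    have hY : St ρ L ((insert j T : Finset Ω) : Set Ω) Y := by
      intro i hi g hg x hx
      induction hx using Submodule.span_induction with
      | mem x hx =>
        obtain ⟨r, hr, y, hy, rfl⟩ := hx
        apply Submodule.subset_span
        rw [Finset.mem_coe, Finset.mem_insert] at hi
        rcases hi with rfl | hi
        · exact ⟨ρ g * r, (A ρ L i).mul_mem (mem_alg (ρ.comp (L i).subtype) ⟨g, hg⟩) hr, y, hy, rfl⟩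
        · have hij : j ≠ i := fun h => hj (h ▸ hi)
          refine ⟨r, hr, ρ g y, St_X _ _ i hi g hg y hy, ?_⟩
          exact (LinearMap.congr_fun (S.comm1 hij hr hg) y).symm
      | zero => rw [map_zero]; exact Y.zero_mem
      | add x y _ _ hx hy => rw [map_add]; exact Y.add_mem hx hy
      | smul f x _ hx => rw [map_smul]; exact Y.smul_mem f hx
    have hwY : w ∈ Y := Submodule.subset_span ⟨1, (A ρ L j).one_mem, w, mem_X _ _, rfl⟩
    have h1 : a ∈ Y := X_le hY hwY ha
    have h2 : ∀ y ∈ X ρ L (T : Set Ω) w, e j y = y := by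
      intro y hy
      have h3 : X ρ L (T : Set Ω) w ≤ LinearMap.ker (e j - 1) := by
        refine X_le ?_ ?_
        · intro i hi g hg x hx
          rw [LinearMap.mem_ker, LinearMap.sub_apply, sub_eq_zero] at hx ⊢
          have hij : j ≠ i := fun h => hj (h ▸ hi)
          have h4 := LinearMap.congr_fun (S.comm1 hij (S.mu j).eA hg) x
          rw [Module.End.mul_apply, Module.End.mul_apply, hx] at h4
          exact h4
        · rw [LinearMap.mem_ker, LinearMap.sub_apply, sub_eq_zero]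
          exact hw j (Finset.mem_insert_self j T)
      have h4 := h3 hy
      rwa [LinearMap.mem_ker, LinearMap.sub_apply, sub_eq_zero] at h4
    have h3 : e j a ∈ X ρ L (T : Set Ω) w := by
      have h4 : ∀ x ∈ Y, e j x ∈ X ρ L (T : Set Ω) w := by
        intro x hx
        induction hx using Submodule.span_induction with
        | mem x hx =>
          obtain ⟨r, hr, y, hy, rfl⟩ := hx
          obtain ⟨f, hf⟩ := (S.mu j).corner r hr
          have h5 : e j (r y) = (e j * r * e j) y := by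
            rw [Module.End.mul_apply, Module.End.mul_apply, h2 y hy]
          rw [h5, hf, LinearMap.smul_apply, h2 y hy]
          exact (X ρ L (T : Set Ω) w).smul_mem f hy
        | zero => rw [map_zero]; exact Submodule.zero_mem _
        | add x y _ _ hx hy => rw [map_add]; exact Submodule.add_mem _ hx hy
        | smul f x _ hx => rw [map_smul]; exact Submodule.smul_mem _ f hx
      exact h4 a h1
    rw [hea j (Finset.mem_insert_self j T)] at h3
    exact ih (fun i hi => hw i (Finset.mem_insert_of_mem hi)) h3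
      (fun i hi => hea i (Finset.mem_insert_of_mem hi))

theorem Sys.pure_fixed (S : Sys ρ L e u u') (T : Finset Ω) {w : V} (hw0 : w ≠ 0) (hw : ∀ i ∈ T, e i w = w) :
    Pure ρ L (T : Set Ω) w := by
  refine ⟨hw0, fun U hU hUX hne => ?_⟩
  obtain ⟨x, hx, hx0, hxe⟩ := S.exists_fixed hU hne T (fun i hi => hi)
  obtain ⟨f, hf⟩ := S.corner T hw (hUX hx) hxe
  have hf0 : f ≠ 0 := by
    rintro rfl
    exact hx0 (by rw [hf, zero_smul])
  have h1 : w = f⁻¹ • x := by rw [hf, smul_smul, inv_mul_cancel₀ hf0, one_smul]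
  rw [h1]
  exact U.smul_mem _ hx

variable (ρ L) in
/-- `g` behaves like an element of the algebra generated by the groups with labels in `C`. -/
structure InA (C : Set Ω) (g : Module.End F V) : Prop where
  st : ∀ U : Submodule F V, St ρ L C U → ∀ x ∈ U, g x ∈ U
  cm : ∀ z : Module.End F V, (∀ i ∈ C, ∀ a ∈ L i, z * ρ a = ρ a * z) → z * g = g * z

theorem Sys.exists_t (S : Sys ρ L e u u') (T : Finset Ω) : ∃ t : Module.End F V, InA ρ L (T : Set Ω) t ∧
    ∀ x, (∀ i ∈ T, e i x = x) → (∀ i ∈ T, e i (t x) = 0) ∧ (x ≠ 0 → t x ≠ 0) := by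
  classical
  induction T using Finset.induction_on with
  | empty => exact ⟨1, ⟨fun U _ x hx => hx, fun z _ => by rw [mul_one, one_mul]⟩, fun x _ =>
      ⟨fun i hi => by simp at hi, fun hx => hx⟩⟩
  | insert j T hj ih =>
    obtain ⟨t, ht, htx⟩ := ih
    have hej : e j * t = t * e j := ht.cm (e j) (fun i hi a ha =>
      S.comm1 (fun h : j = i => hj (h ▸ hi)) (S.mu j).eA ha)
    refine ⟨u j * t, ⟨?_, ?_⟩, ?_⟩
    · intro U hU x hx
      have h1 : St ρ L (T : Set Ω) U := fun i hi => hU i (Finset.mem_coe.2 (Finset.mem_insert_of_mem hi))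
      exact hU.alg (Finset.mem_coe.2 (Finset.mem_insert_self j T)) (S.mu j).uA (ht.st U h1 x hx)
    · intro z hz
      have h1 : z * u j = u j * z :=
        comm_of (hz j (Finset.mem_coe.2 (Finset.mem_insert_self j T))) (S.mu j).uA
      have h2 : z * t = t * z := ht.cm z (fun i hi => hz i (Finset.mem_coe.2 (Finset.mem_insert_of_mem hi)))
      rw [← mul_assoc, h1, mul_assoc, h2, mul_assoc]
    · intro x hx
      obtain ⟨h1, h2⟩ := htx x (fun i hi => hx i (Finset.mem_insert_of_mem hi))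
      refine ⟨fun i hi => ?_, fun hx0 h0 => ?_⟩
      · rw [Finset.mem_insert] at hi
        rcases hi with rfl | hi
        · rw [Module.End.mul_apply]
          exact LinearMap.congr_fun (S.mu i).eu (t x)
        · have hij : i ≠ j := fun h => hj (h ▸ hi)
          have h3 := LinearMap.congr_fun (S.comm2 hij (S.mu i).eA (S.mu j).uA) (t x)
          rw [Module.End.mul_apply, Module.End.mul_apply, h1 i hi, map_zero] at h3
          exact h3
      · apply h2 hx0
        have h3 : u' j (u j (t x)) = 0 := by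
          rw [Module.End.mul_apply] at h0
          rw [h0, map_zero]
        have h4 : u' j (u j (t x)) = e j (t x) := LinearMap.congr_fun (S.mu j).uu (t x)
        have h5 : e j (t x) = t (e j x) := LinearMap.congr_fun hej x
        rw [← h3, h4, h5, hx j (Finset.mem_insert_self j T)]

theorem Sys.exists_g (S : Sys ρ L e u u') (T : Finset Ω) : ∃ g : Module.End F V, InA ρ L (T : Set Ω) g ∧
    ∀ x, x ≠ 0 → (∀ i ∈ T, e i x = x) → g x ≠ 0 ∧ ∀ i ∈ T, e i (g x) = x ∧ g x ≠ x := by
  classical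
  rcases T.eq_empty_or_nonempty with rfl | hT
  · exact ⟨1, ⟨fun U _ x hx => hx, fun z _ => by rw [mul_one, one_mul]⟩, fun x hx _ =>
      ⟨hx, fun i hi => by simp at hi⟩⟩
  · obtain ⟨t, ht, htx⟩ := S.exists_t T
    refine ⟨1 + t, ⟨fun U hU x hx => ?_, fun z hz => ?_⟩, fun x hx0 hx => ?_⟩
    · exact U.add_mem hx (ht.st U hU x hx)
    · rw [mul_add, add_mul, mul_one, one_mul, ht.cm z hz]
    · obtain ⟨h1, h2⟩ := htx x hx
      have h3 : ∀ i ∈ T, e i ((1 + t) x) = x := by
        intro i hi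
        rw [LinearMap.add_apply, map_add, h1 i hi, add_zero]
        exact hx i hi
      refine ⟨fun h0 => ?_, fun i hi => ⟨h3 i hi, fun h => ?_⟩⟩
      · obtain ⟨i, hi⟩ := hT
        have h4 := h3 i hi
        rw [h0, map_zero] at h4
        exact hx0 h4.symm
      · apply h2 hx0
        have h5 : x + t x = x := h
        simpa using h5

theorem InA.comm {C D : Set Ω} {g h : Module.End F V} (S : Sys ρ L e u u') (hCD : Disjoint C D)
    (hg : InA ρ L C g) (hh : InA ρ L D h) : g * h = h * g := by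
  refine hh.cm g fun j hj b hb => ?_
  exact (hg.cm (ρ b) fun i hi a ha =>
    S.comm j i (fun h => Set.disjoint_left.1 hCD (h ▸ hi) hj) b hb a ha).symm

/-- A set of labels is pure for `g (p w)` if it is pure for `w` and `p` commutes with its groups. -/
theorem Pure.of_mul {C : Set Ω} {w : V} (hw : Pure ρ L C w) {g p : Module.End F V} (hg : InA ρ L C g)
    (hp : ∀ i ∈ C, ∀ a ∈ L i, p * ρ a = ρ a * p) (h0 : g (p w) ≠ 0) : Pure ρ L C (g (p w)) := by
  refine ⟨h0, fun U hU hUX hne => ?_⟩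
  have hpg : p * g = g * p := hg.cm p hp
  have h1 : X ρ L C (g (p w)) ≤ (X ρ L C w).map p := by
    refine X_le ?_ ?_
    · intro i hi a ha x hx
      obtain ⟨y, hy, rfl⟩ := hx
      refine ⟨ρ a y, St_X _ _ i hi a ha y hy, ?_⟩
      exact LinearMap.congr_fun (hp i hi a ha) y
    · refine ⟨g w, hg.st _ (St_X C w) w (mem_X C w), ?_⟩
      exact LinearMap.congr_fun hpg w
  have h2 : St ρ L C (U.comap p ⊓ X ρ L C w) := by
    intro i hi a ha x hx
    refine ⟨?_, St_X _ _ i hi a ha x hx.2⟩
    have h3 := LinearMap.congr_fun (hp i hi a ha) x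
    rw [Module.End.mul_apply, Module.End.mul_apply] at h3
    change p (ρ a x) ∈ U
    rw [h3]
    exact hU i hi a ha _ hx.1
  have h3 : U.comap p ⊓ X ρ L C w ≠ ⊥ := by
    obtain ⟨x, hx, hx0⟩ := U.ne_bot_iff.1 hne
    obtain ⟨y, hy, rfl⟩ := h1 (hUX hx)
    intro h4
    have h5 : y ∈ U.comap p ⊓ X ρ L C w := ⟨hx, hy⟩
    rw [h4, Submodule.mem_bot] at h5
    exact hx0 (by rw [h5, map_zero])
  have h4 := hw.2 _ h2 inf_le_right h3
  exact hg.st U hU _ h4.1

/-- No pure set splits a colour class. -/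
theorem Sys.no_split (S : Sys ρ L e u u') {C : Set Ω} {v : V} (hC : Pure ρ L C v) {i j : Ω} (hi : i ∈ C)
    (hj : j ∉ C) (h1 : e i v = e j v) (h0 : e i v ≠ 0) (hv : e i v ≠ v) : False := by
  have h2 : St ρ L C (X ρ L C v ⊓ LinearMap.ker (e j - 1)) := by
    intro k hk a ha x hx
    refine ⟨St_X _ _ k hk a ha x hx.1, ?_⟩
    have hx2 := hx.2
    change x ∈ LinearMap.ker (e j - 1) at hx2
    change ρ a x ∈ LinearMap.ker (e j - 1)
    rw [LinearMap.mem_ker, LinearMap.sub_apply, sub_eq_zero] at hx2 ⊢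
    have hjk : j ≠ k := fun h => hj (h ▸ hk)
    have h4 := LinearMap.congr_fun (S.comm1 hjk (S.mu j).eA ha) x
    rw [Module.End.mul_apply, Module.End.mul_apply, hx2] at h4
    exact h4
  have h3 : e i v ∈ X ρ L C v ⊓ LinearMap.ker (e j - 1) := by
    refine ⟨(St_X C v).alg hi (S.mu i).eA (mem_X C v), ?_⟩
    change e i v ∈ LinearMap.ker (e j - 1)
    rw [LinearMap.mem_ker, LinearMap.sub_apply, sub_eq_zero, h1]
    exact LinearMap.congr_fun (S.mu j).ee v
  have h4 : X ρ L C v ⊓ LinearMap.ker (e j - 1) ≠ ⊥ := by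
    intro h
    rw [h, Submodule.mem_bot] at h3
    exact h0 h3
  have h5 := (hC.2 _ h2 inf_le_left h4).2
  change v ∈ LinearMap.ker (e j - 1) at h5
  rw [LinearMap.mem_ker, LinearMap.sub_apply, sub_eq_zero] at h5
  exact hv (h1.trans h5)

/-- Every colouring with three colours is recognised by a vector. -/
theorem Sys.exists_vec [Finite Ω] [Nontrivial V] (S : Sys ρ L e u u') (κ : Ω → Fin 3) :
    ∃ v : V, v ≠ 0 ∧ (∀ c, Pure ρ L {i | κ i = c} v) ∧
      ∀ C : Set Ω, Pure ρ L C v → ∀ i ∈ C, ∀ j, κ j = κ i → j ∈ C := by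
  classical
  haveI := Fintype.ofFinite Ω
  obtain ⟨w, -, hw0, hw⟩ := S.exists_fixed (C := Set.univ) (U := ⊤) (fun _ _ _ _ _ _ => Submodule.mem_top)
    top_ne_bot Finset.univ (fun i _ => Set.mem_univ i)
  let T : Fin 3 → Finset Ω := fun c => Finset.univ.filter fun i => κ i = c
  have hT : ∀ c i, i ∈ T c ↔ κ i = c := fun c i => by simp [T]
  choose g hg hgx using fun c => S.exists_g (T c)
  have hdis : ∀ c d, c ≠ d → Disjoint (T c : Set Ω) (T d : Set Ω) := by
    intro c d hcd
    rw [Set.disjoint_left]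
    intro i hi hi'
    rw [Finset.mem_coe, hT] at hi hi'
    exact hcd (hi.symm.trans hi')
  have hcomm : ∀ c d, c ≠ d → g c * g d = g d * g c := fun c d hcd => (hg c).comm S (hdis c d hcd) (hg d)
  -- commutation of `g c` with the groups of the other colours
  have hcg : ∀ c d, c ≠ d → ∀ i ∈ (T d : Set Ω), ∀ a ∈ L i, g c * ρ a = ρ a * g c := by
    intro c d hcd i hi a ha
    refine ((hg c).cm (ρ a) fun k hk b hb => ?_).symm
    exact S.comm i k (fun h => Set.disjoint_left.1 (hdis c d hcd) hk (h ▸ hi)) a ha b hb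
  -- the key statement for three different colours
  have key : ∀ c a b, c ≠ a → c ≠ b → a ≠ b →
      g c (g a (g b w)) ≠ 0 ∧ Pure ρ L (T c : Set Ω) (g c (g a (g b w))) ∧
      ∃ y : V, ∀ i ∈ T c, e i (g c (g a (g b w))) = y ∧ y ≠ 0 ∧ y ≠ g c (g a (g b w)) := by
    intro c a b hca hcb hab
    have hfix : ∀ d i, κ i ≠ d → ∀ x, e i x = x → e i (g d x) = g d x := by
      intro d i hi x hx
      have h1 : e i * g d = g d * e i := (hg d).cm (e i) (fun k hk b hb => by
        rw [Finset.mem_coe, hT] at hk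
        exact S.comm1 (fun h : i = k => hi (h ▸ hk)) (S.mu i).eA hb)
      have h2 := LinearMap.congr_fun h1 x
      rw [Module.End.mul_apply, Module.End.mul_apply, hx] at h2
      exact h2
    have hw' : ∀ i, e i w = w := fun i => hw i (Finset.mem_univ i)
    have h1 : g b w ≠ 0 := (hgx b w hw0 (fun i _ => hw' i)).1
    have h2 : g a (g b w) ≠ 0 := (hgx a _ h1 (fun i hi => hfix b i (by
      rw [(hT a i).1 hi]; exact hab) w (hw' i))).1
    have h3 : ∀ i ∈ T c, e i (g a (g b w)) = g a (g b w) := fun i hi =>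
      hfix a i (by rw [(hT c i).1 hi]; exact hca) _ (hfix b i (by rw [(hT c i).1 hi]; exact hcb) w (hw' i))
    obtain ⟨h4, h5⟩ := hgx c _ h2 h3
    refine ⟨h4, ?_, g a (g b w), fun i hi => ⟨(h5 i hi).1, h2, Ne.symm (h5 i hi).2⟩⟩
    have h6 := (S.pure_fixed (T c) hw0 (fun i _ => hw' i)).of_mul (g := g c) (p := g a * g b) (hg c)
      (fun i hi x hx => by
        rw [mul_assoc, hcg b c (Ne.symm hcb) i hi x hx, ← mul_assoc, hcg a c (Ne.symm hca) i hi x hx,
          mul_assoc]) h4
    exact h6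
  have e01 : g 0 (g 1 (g 2 w)) = g 1 (g 0 (g 2 w)) := LinearMap.congr_fun (hcomm 0 1 (by decide)) (g 2 w)
  have e12 : g 1 (g 2 w) = g 2 (g 1 w) := LinearMap.congr_fun (hcomm 1 2 (by decide)) w
  have e02 : g 0 (g 2 (g 1 w)) = g 2 (g 0 (g 1 w)) := LinearMap.congr_fun (hcomm 0 2 (by decide)) (g 1 w)
  have e2 : g 0 (g 1 (g 2 w)) = g 2 (g 0 (g 1 w)) := by rw [e12, e02]
  have all : ∀ c, Pure ρ L (T c : Set Ω) (g 0 (g 1 (g 2 w))) ∧
      ∃ y : V, ∀ i ∈ T c, e i (g 0 (g 1 (g 2 w))) = y ∧ y ≠ 0 ∧ y ≠ g 0 (g 1 (g 2 w)) := by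
    intro c
    fin_cases c
    · exact (key 0 1 2 (by decide) (by decide) (by decide)).2
    · rw [e01]
      exact (key 1 0 2 (by decide) (by decide) (by decide)).2
    · rw [e2]
      exact (key 2 0 1 (by decide) (by decide) (by decide)).2
  refine ⟨g 0 (g 1 (g 2 w)), (key 0 1 2 (by decide) (by decide) (by decide)).1, fun c => ?_, ?_⟩
  · have h1 := (all c).1
    have h2 : (T c : Set Ω) = {i | κ i = c} := by
      ext i
      rw [Finset.mem_coe, hT]
      rfl
    rwa [h2] at h1
  · intro C hC i hi j hij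
    by_contra hj
    obtain ⟨y, hy⟩ := (all (κ i)).2
    obtain ⟨h1, h2, h3⟩ := hy i ((hT _ _).2 rfl)
    obtain ⟨h4, -, -⟩ := hy j ((hT _ _).2 hij)
    exact S.no_split hC hi hj (h1.trans h4.symm) (by rw [h1]; exact h2) (by rw [h1]; exact h3)

end pure

end Cfsg.Agent.H229.NX
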