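import Mathlib
import Cfsg.Agent.H229.NX.Pure
import Cfsg.Agent.H229.NX.Norm
import Cfsg.Agent.H229.NX.LabelU

/-!
# S4979, the layer of permuted components

Pairwise commuting subgroups `L i`, permuted transitively by a primitive linear group `H`, none of them acting
commutatively, are impossible if every vector is fixed by a Sylow `p`-subgroup.
-/

set_option autoImplicit false
set_option linter.unusedSectionVars false
set_option linter.style.haveILetI false

namespace Cfsg.Agent.H229.NX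

open Cfsg.Agent.H511.Wt MulAction

section ring

variable {H V : Type*} [Group H] [AddCommGroup V] [DistribMulAction H V]

variable (V) in
/-- The ring generated by a subgroup. -/
def RR (M : Subgroup H) : Subring (AddMonoid.End V) := Subring.closure (toE V '' (M : Set H))

variable (V) in
/-- The centre of the ring generated by a subgroup. -/
def ZZ (M : Subgroup H) : Subring (AddMonoid.End V) :=
  RR V M ⊓ Subring.centralizer (toE V '' (M : Set H))

theorem toE_mem_RR {M : Subgroup H} {g : H} (hg : g ∈ M) : toE V g ∈ RR V M :=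
  Subring.subset_closure ⟨g, hg, rfl⟩

theorem mem_ZZ {M : Subgroup H} {z : AddMonoid.End V} :
    z ∈ ZZ V M ↔ z ∈ RR V M ∧ ∀ g ∈ M, toE V g * z = z * toE V g := by
  rw [ZZ, Subring.mem_inf, Subring.mem_centralizer_iff]
  refine and_congr_right fun _ => ?_
  constructor
  · intro h g hg
    exact h _ ⟨g, hg, rfl⟩
  · rintro h _ ⟨g, hg, rfl⟩
    exact h g hg

theorem commute_RR {M : Subgroup H} {z : AddMonoid.End V} (hz : ∀ g ∈ M, toE V g * z = z * toE V g)
    {r : AddMonoid.End V} (hr : r ∈ RR V M) : r * z = z * r := by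
  induction hr using Subring.closure_induction with
  | mem x hx =>
    obtain ⟨g, hg, rfl⟩ := hx
    exact hz g hg
  | zero => rw [zero_mul, mul_zero]
  | one => rw [one_mul, mul_one]
  | add x y _ _ hx hy => rw [add_mul, mul_add, hx, hy]
  | neg x _ hx => rw [neg_mul, mul_neg, hx]
  | mul x y _ _ hx hy => rw [mul_assoc, hy, ← mul_assoc, hx, mul_assoc]

theorem ZZ_comm {M : Subgroup H} {a b : AddMonoid.End V} (ha : a ∈ ZZ V M) (hb : b ∈ ZZ V M) :
    a * b = b * a :=
  commute_RR (mem_ZZ.1 hb).2 (mem_ZZ.1 ha).1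

theorem conj_mul (h : H) (a b : AddMonoid.End V) :
    toE V h * (a * b) * toE V h⁻¹ = (toE V h * a * toE V h⁻¹) * (toE V h * b * toE V h⁻¹) := by
  calc toE V h * (a * b) * toE V h⁻¹
      = toE V h * a * 1 * b * toE V h⁻¹ := by noncomm_ring
    _ = toE V h * a * (toE V h⁻¹ * toE V h) * b * toE V h⁻¹ := by rw [toE_inv_mul]
    _ = _ := by noncomm_ring

theorem nrm_RR {M : Subgroup H} (hM : M.Normal) : Nrm H (RR V M) := by
  intro h z hz
  induction hz using Subring.closure_induction with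
  | mem x hx =>
    obtain ⟨g, hg, rfl⟩ := hx
    rw [← map_mul, ← map_mul]
    exact toE_mem_RR (hM.conj_mem g hg h)
  | zero => rw [mul_zero, zero_mul]; exact Subring.zero_mem _
  | one => rw [mul_one, toE_mul_inv]; exact Subring.one_mem _
  | add x y _ _ hx hy => rw [mul_add, add_mul]; exact Subring.add_mem _ hx hy
  | neg x _ hx => rw [mul_neg, neg_mul]; exact Subring.neg_mem _ hx
  | mul x y _ _ hx hy => rw [conj_mul]; exact Subring.mul_mem _ hx hy

theorem nrm_ZZ {M : Subgroup H} (hM : M.Normal) : Nrm H (ZZ V M) := by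
  intro h z hz
  rw [mem_ZZ] at hz ⊢
  refine ⟨nrm_RR hM h z hz.1, fun g hg => ?_⟩
  have h1 := hz.2 (h⁻¹ * g * h) (by
    have := hM.conj_mem g hg h⁻¹
    rwa [inv_inv] at this)
  have h2 : toE V g = toE V h * toE V (h⁻¹ * g * h) * toE V h⁻¹ := by
    rw [← map_mul, ← map_mul]
    congr 1
    group
  rw [h2, ← conj_mul, ← conj_mul, h1]

/-- The centre of the ring generated by a normal subgroup of a primitive linear group is a field. -/
theorem isField_ZZ [Finite H] [Finite V] (hirr : Irr H V) (hni : ¬ ImpP H V) {M : Subgroup H}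
    (hM : M.Normal) : IsField (ZZ V M) :=
  isField_subring hirr hni (ZZ V M) (fun _ ha _ hb => ZZ_comm ha hb) (nrm_ZZ hM)

end ring

section lin

variable {F V E Ω : Type*} [Field F] [AddCommGroup V] [Module F V] [Finite V] [Nontrivial V] [Group E]
  [Finite E] [Finite Ω]

theorem exists_vec_lin (ρ : E →* Module.End F V) (L : Ω → Subgroup E)
    (hcomm : ∀ i j, i ≠ j → ∀ a ∈ L i, ∀ b ∈ L j, ρ a * ρ b = ρ b * ρ a)
    (hchar : ∀ i, (Nat.card (L i) : F) ≠ 0)
    (hcen : ∀ i, ∀ z ∈ A ρ L i, (∀ g ∈ L i, z * ρ g = ρ g * z) → ∃ f : F, z = algebraMap F _ f)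
    (hnc : ∀ i, ∃ a ∈ L i, ∃ b ∈ L i, ρ a * ρ b ≠ ρ b * ρ a) (κ : Ω → Fin 3) :
    ∃ v : V, v ≠ 0 ∧ (∀ c, Pure ρ L {i | κ i = c} v) ∧
      ∀ C : Set Ω, Pure ρ L C v → ∀ i ∈ C, ∀ j, κ j = κ i → j ∈ C := by
  have h1 : ∀ i, ∃ e u u', MU (ρ.comp (L i).subtype) e u u' := by
    intro i
    refine exists_mu (ρ.comp (L i).subtype) (hchar i) (fun z hz h => hcen i z hz fun g hg => h ⟨g, hg⟩) ?_
    obtain ⟨a, ha, b, hb, hab⟩ := hnc i
    exact ⟨⟨a, ha⟩, ⟨b, hb⟩, hab⟩
  choose e u u' hmu using h1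
  exact Sys.exists_vec ⟨hcomm, hmu⟩ κ

end lin

section index

variable {H Ω : Type*} [Group H] [MulAction H Ω]

theorem card_class {S : Subgroup H} {κ : Ω → Fin 3}
    (hS : ∀ h ∈ S, ∀ i j, κ i = κ j → κ (h • i) = κ (h • j)) {h : H} (hh : h ∈ S) (i : Ω) :
    Nat.card {j // κ j = κ i} = Nat.card {j // κ j = κ (h • i)} := by
  refine Nat.card_congr ⟨fun j => ⟨h • j.1, hS h hh _ _ j.2⟩, fun j => ⟨h⁻¹ • j.1, ?_⟩, fun j => ?_, fun j => ?_⟩
  · have := hS h⁻¹ (S.inv_mem hh) _ _ j.2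
    rwa [inv_smul_smul] at this
  · exact Subtype.ext (inv_smul_smul h j.1)
  · exact Subtype.ext (smul_inv_smul h j.1)

theorem fix_of_odd {S : Subgroup H} {κ : Ω → Fin 3}
    (hS : ∀ h ∈ S, ∀ i j, κ i = κ j → κ (h • i) = κ (h • j)) (hκ : Uneq κ) {h : H} (hh : h ∈ S)
    (hodd : Odd (orderOf h)) (i : Ω) : κ (h • i) = κ i := by
  by_contra hne
  have h1 : κ (h • h • i) ≠ κ (h • i) := by
    intro h2
    have h3 := hS h⁻¹ (S.inv_mem hh) _ _ h2
    rw [inv_smul_smul, inv_smul_smul] at h3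
    exact hne h3
  have h2 : κ (h • h • i) ≠ κ i := by
    intro h3
    have h4 : ∀ k : ℕ, κ ((h ^ 2) ^ k • i) = κ i := by
      intro k
      induction k with
      | zero => rw [pow_zero, one_smul]
      | succ k ih =>
        have h5 := hS (h ^ 2) (S.pow_mem hh 2) _ _ ih
        rw [pow_succ', mul_smul, h5, pow_two, mul_smul, h3]
    obtain ⟨m, hm⟩ := hodd
    have h5 := h4 (m + 1)
    have h6 : (h ^ 2) ^ (m + 1) = h := by
      rw [← pow_mul, show 2 * (m + 1) = orderOf h + 1 by omega, pow_succ, pow_orderOf_eq_one, one_mul]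
    rw [h6] at h5
    exact hne h5
  have e1 := card_class hS hh i
  have e2 := card_class hS hh (h • i)
  apply hκ
  have hall : ∀ c0 c1 c2 : Fin 3, c1 ≠ c0 → c2 ≠ c1 → c2 ≠ c0 → ∀ a, a = c0 ∨ a = c1 ∨ a = c2 := by decide
  have hcov := hall (κ i) (κ (h • i)) (κ (h • h • i)) hne h1 h2
  have hval : ∀ a, Nat.card {j // κ j = a} = Nat.card {j // κ j = κ i} := by
    intro a
    rcases hcov a with rfl | rfl | rfl
    · rfl
    · exact e1.symm
    · exact (e1.trans e2).symm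
  intro a b
  rw [hval a, hval b]

theorem not_dvd_of_classes [Finite H] {p : ℕ} [hp : Fact p.Prime] (hp2 : p ≠ 2) {S : Subgroup H} {κ : Ω → Fin 3}
    (hS : ∀ h ∈ S, ∀ i j, κ i = κ j → κ (h • i) = κ (h • j)) (hκ : Uneq κ) (hidx : ¬ p ∣ S.index) :
    ¬ p ∣ (colStab H κ).index := by
  obtain ⟨P⟩ : Nonempty (Sylow p S) := inferInstance
  intro hd
  have h1 : (P : Subgroup S).map S.subtype ≤ colStab H κ := by
    rintro _ ⟨g, hg, rfl⟩
    rw [mem_colStab]
    intro i
    refine fix_of_odd hS hκ g.2 ?_ i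
    obtain ⟨k, hk⟩ := P.isPGroup' ⟨g, hg⟩
    have h2 : (g : H) ^ p ^ k = 1 := by
      have := congrArg (fun x : P => ((x : S) : H)) hk
      simpa using this
    have h3 : orderOf (g : H) ∣ p ^ k := orderOf_dvd_of_pow_eq_one h2
    exact Odd.of_dvd_nat ((hp.out.odd_of_ne_two hp2).pow) h3
  have h2 := Subgroup.index_dvd_of_le h1
  have h3 := hd.trans h2
  rw [Subgroup.index_map_subtype] at h3
  rcases hp.out.dvd_mul.1 h3 with h4 | h4
  · exact P.not_dvd_index h4
  · exact hidx h4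

end index

section vec

variable {H V Ω : Type*} [Group H] [Finite H] [AddCommGroup V] [Finite V] [DistribMulAction H V]
  [MulAction H Ω] [Finite Ω]

theorem exists_vec_group (hirr : Irr H V) (hni : ¬ ImpP H V) (L : Ω → Subgroup H)
    (hL : ∀ (h : H) (i : Ω) (g : H), g ∈ L i → h * g * h⁻¹ ∈ L (h • i))
    (hcomm : ∀ i j, i ≠ j → ∀ a ∈ L i, ∀ b ∈ L j, a * b = b * a)
    {q : ℕ} (hexp : ∀ v : V, q • v = 0) (hq : ∀ i, (Nat.card (L i)).Coprime q)
    (hnc : ∀ i, ∃ a ∈ L i, ∃ b ∈ L i, ∃ v : V, a • b • v ≠ b • a • v) (κ : Ω → Fin 3) :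
    ∃ v : V, ∀ h : H, h • v = v → ∀ i j, κ i = κ j → κ (h • i) = κ (h • j) := by
  classical
  haveI : Nontrivial V := hirr.nt
  set E : Subgroup H := ⨆ i, L i with hE
  have hLE : ∀ i, L i ≤ E := fun i => le_iSup L i
  have hEn : E.Normal := by
    refine ⟨fun g hg h => ?_⟩
    have h1 : E ≤ E.comap (MulAut.conj h).toMonoidHom := by
      rw [hE]
      refine iSup_le fun i g hg => ?_
      rw [Subgroup.mem_comap]
      exact hLE (h • i) (hL h i g hg)
    exact h1 hg
  set Z := ZZ V E with hZ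
  have hF : IsField Z := isField_ZZ hirr hni hEn
  letI iF : Field Z := hF.toField
  letI iM : Module Z V := inferInstanceAs (Module (ZZ V E) V)
  have hsm : ∀ (z : Z) (v : V), z • v = (z : AddMonoid.End V) v := fun _ _ => rfl
  have hzc : ∀ (z : Z), ∀ g ∈ E, ∀ v : V, g • (z • v) = z • (g • v) := by
    intro z g hg v
    have h1 := (mem_ZZ.1 z.2).2 g hg
    exact DFunLike.congr_fun h1 v
  let ρ : E →* Module.End Z V :=
    { toFun := fun g =>
        { toFun := fun v => (g : H) • v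
          map_add' := fun x y => smul_add _ x y
          map_smul' := fun z v => hzc z g g.2 v }
      map_one' := LinearMap.ext fun v => one_smul H v
      map_mul' := fun a b => LinearMap.ext fun v => mul_smul (a : H) (b : H) v }
  have hρ : ∀ (g : E) (v : V), ρ g v = (g : H) • v := fun _ _ => rfl
  let L' : Ω → Subgroup E := fun i => (L i).subgroupOf E
  have hL' : ∀ i (g : E), g ∈ L' i ↔ (g : H) ∈ L i := fun i g => Subgroup.mem_subgroupOf
  have hcomm' : ∀ i j, i ≠ j → ∀ a ∈ L' i, ∀ b ∈ L' j, ρ a * ρ b = ρ b * ρ a := by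
    intro i j hij a ha b hb
    rw [← map_mul, ← map_mul]
    congr 1
    exact Subtype.ext (hcomm i j hij a ha b hb)
  have hchar : ∀ i, (Nat.card (L' i) : Z) ≠ 0 := by
    intro i h0
    have hc : Nat.card (L' i) = Nat.card (L i) := Nat.card_congr (Subgroup.subgroupOfEquivOfLe (hLE i)).toEquiv
    obtain ⟨v, hv⟩ := exists_ne (0 : V)
    apply hv
    have h1 : Nat.card (L i) • v = 0 := by
      rw [← hc, ← Nat.cast_smul_eq_nsmul Z, h0, zero_smul]
    have h2 : addOrderOf v ∣ Nat.card (L i) := addOrderOf_dvd_of_nsmul_eq_zero h1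
    have h3 : addOrderOf v ∣ q := addOrderOf_dvd_of_nsmul_eq_zero (hexp v)
    have h4 := Nat.dvd_gcd h2 h3
    rw [hq i] at h4
    exact AddMonoid.addOrderOf_eq_one_iff.1 (Nat.dvd_one.1 h4)
  have hcen : ∀ i, ∀ z ∈ A ρ L' i, (∀ g ∈ L' i, z * ρ g = ρ g * z) → ∃ f : Z, z = algebraMap Z _ f := by
    intro i z hz hzi
    let tA : Module.End Z V → AddMonoid.End V := fun z => z.toAddMonoidHom
    have h1 : ∀ z ∈ A ρ L' i, tA z ∈ RR V E := by
      intro z hz
      induction hz using Algebra.adjoin_induction with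
      | mem s hs =>
        obtain ⟨g, rfl⟩ := hs
        exact toE_mem_RR (g : E).2
      | algebraMap a =>
        have h2 : (a : AddMonoid.End V) ∈ RR V E := (mem_ZZ.1 a.2).1
        exact h2
      | add a b _ _ ha hb => exact (RR V E).add_mem ha hb
      | mul a b _ _ ha hb => exact (RR V E).mul_mem ha hb
    have h2 : E ≤ (Subgroup.closure {g : H | ∃ i, g ∈ L i}) := by
      rw [hE]
      exact iSup_le fun j g hg => Subgroup.subset_closure ⟨j, hg⟩
    have h3 : ∀ j, ∀ g ∈ L j, toE V g * tA z = tA z * toE V g := by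
      intro j g hg
      have hgE : g ∈ E := hLE j hg
      have h4 : z * ρ ⟨g, hgE⟩ = ρ ⟨g, hgE⟩ * z := by
        by_cases hij : i = j
        · subst hij
          exact hzi _ ((hL' _ _).2 hg)
        · have h5 : ∀ a ∈ L' i, ρ ⟨g, hgE⟩ * ρ a = ρ a * ρ ⟨g, hgE⟩ := fun a ha =>
            hcomm' j i (Ne.symm hij) ⟨g, hgE⟩ ((hL' _ _).2 hg) a ha
          exact (comm_of h5 hz).symm
      refine AddMonoidHom.ext fun v => ?_
      exact (LinearMap.congr_fun h4 v).symm
    have h4 : ∀ g ∈ E, toE V g * tA z = tA z * toE V g := by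
      intro g hg
      have h5 := h2 hg
      clear hg
      induction h5 using Subgroup.closure_induction with
      | mem x hx =>
        obtain ⟨j, hj⟩ := hx
        exact h3 j x hj
      | one => rw [map_one, one_mul, mul_one]
      | mul x y _ _ hx hy => rw [map_mul, mul_assoc, hy, ← mul_assoc, hx, mul_assoc]
      | inv x _ hx =>
        calc toE V x⁻¹ * tA z = toE V x⁻¹ * tA z * (toE V x * toE V x⁻¹) := by rw [toE_mul_inv, mul_one]
          _ = toE V x⁻¹ * (tA z * toE V x) * toE V x⁻¹ := by noncomm_ring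
          _ = (toE V x⁻¹ * toE V x) * tA z * toE V x⁻¹ := by rw [← hx]; noncomm_ring
          _ = tA z * toE V x⁻¹ := by rw [toE_inv_mul, one_mul]
    refine ⟨⟨tA z, mem_ZZ.2 ⟨h1 z hz, h4⟩⟩, ?_⟩
    ext v
    rfl
  have hnc' : ∀ i, ∃ a ∈ L' i, ∃ b ∈ L' i, ρ a * ρ b ≠ ρ b * ρ a := by
    intro i
    obtain ⟨a, ha, b, hb, v, hv⟩ := hnc i
    refine ⟨⟨a, hLE i ha⟩, (hL' _ _).2 ha, ⟨b, hLE i hb⟩, (hL' _ _).2 hb, fun h => hv ?_⟩
    exact LinearMap.congr_fun h v
  obtain ⟨v, hv0, hpure, hsplit⟩ := exists_vec_lin ρ L' hcomm' hchar hcen hnc' κ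
  -- equivariance
  have hnrm : Nrm H (ZZ V E) := nrm_ZZ hEn
  have hconj : ∀ (h : H) (z : Z), ∃ z' : Z, ∀ v : V, h • (z • v) = z' • (h • v) := by
    intro h z
    refine ⟨⟨_, hnrm h z z.2⟩, fun v => ?_⟩
    change h • ((z : AddMonoid.End V) v) = toE V h ((z : AddMonoid.End V) (toE V h⁻¹ (h • v)))
    rw [toE_apply, toE_apply, inv_smul_smul]
  let T : H → Submodule Z V → Submodule Z V := fun h U =>
    { carrier := {x | h⁻¹ • x ∈ U}
      zero_mem' := by
        change h⁻¹ • (0 : V) ∈ U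
        rw [smul_zero]
        exact U.zero_mem
      add_mem' := fun {a b} ha hb => by
        change h⁻¹ • (a + b) ∈ U
        rw [smul_add]
        exact U.add_mem ha hb
      smul_mem' := fun z x hx => by
        change h⁻¹ • (z • x) ∈ U
        obtain ⟨z', hz'⟩ := hconj h⁻¹ z
        rw [hz']
        exact U.smul_mem z' hx }
  have hT : ∀ h U x, x ∈ T h U ↔ h⁻¹ • x ∈ U := fun _ _ _ => Iff.rfl
  have hSt : ∀ (h : H) (C D : Set Ω) (U : Submodule Z V), (∀ i, i ∈ D → h⁻¹ • i ∈ C) → St ρ L' C U →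
      St ρ L' D (T h U) := by
    intro h C D U hCD hU i hi g hg x hx
    rw [hT] at hx ⊢
    have h1 : h⁻¹ * (g : H) * h ∈ L (h⁻¹ • i) := by
      have := hL h⁻¹ i g ((hL' i g).1 hg)
      rwa [inv_inv] at this
    have h2 := hU (h⁻¹ • i) (hCD i hi) ⟨_, hLE _ h1⟩ ((hL' _ _).2 h1) _ hx
    rw [hρ] at h2 ⊢
    change (h⁻¹ * (g : H) * h) • h⁻¹ • x ∈ U at h2
    have h3 : (h⁻¹ * (g : H) * h) • h⁻¹ • x = h⁻¹ • (g : H) • x := by
      rw [smul_smul, smul_smul]
      congr 1
      group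
    rwa [h3] at h2
  have hPure : ∀ (h : H) (C : Set Ω) (v : V), Pure ρ L' C v → Pure ρ L' {i | h⁻¹ • i ∈ C} (h • v) := by
    intro h C v hC
    refine ⟨fun h0 => hC.1 ((smul_eq_zero_iff_eq h).1 h0), fun U hU hUX hne => ?_⟩
    have h1 : X ρ L' {i | h⁻¹ • i ∈ C} (h • v) ≤ T h (X ρ L' C v) := by
      refine X_le (hSt h C _ _ (fun i hi => hi) (St_X C v)) ?_
      rw [hT, inv_smul_smul]
      exact mem_X C v
    have h2 : St ρ L' C (T h⁻¹ U) := hSt h⁻¹ {i | h⁻¹ • i ∈ C} C U (fun i hi => by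
      change h⁻¹ • (h⁻¹)⁻¹ • i ∈ C
      rwa [inv_inv, inv_smul_smul]) hU
    have h3 : T h⁻¹ U ≤ X ρ L' C v := by
      intro x hx
      rw [hT, inv_inv] at hx
      have h4 := h1 (hUX hx)
      rwa [hT, inv_smul_smul] at h4
    have h4 : T h⁻¹ U ≠ ⊥ := by
      obtain ⟨x, hx, hx0⟩ := U.ne_bot_iff.1 hne
      intro h5
      have h6 : h⁻¹ • x ∈ T h⁻¹ U := by
        rw [hT, inv_inv, smul_inv_smul]
        exact hx
      rw [h5, Submodule.mem_bot, smul_eq_zero_iff_eq] at h6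
      exact hx0 h6
    have h5 := hC.2 _ h2 h3 h4
    rwa [hT, inv_inv] at h5
  refine ⟨v, fun h hh i j hij => ?_⟩
  have hinv : h⁻¹ • v = v := by rw [inv_smul_eq_iff, hh]
  have h1 := hPure h⁻¹ _ _ (hpure (κ (h • i)))
  rw [hinv, inv_inv] at h1
  exact (hsplit _ h1 i rfl j hij.symm).symm

/-- **The layer of permuted components.** -/
theorem layerC (P : Pow) {p q : ℕ} [hp : Fact p.Prime] (hp2 : p ≠ 2) [IsPretransitive H Ω] [Nontrivial Ω]
    (hirr : Irr H V) (hni : ¬ ImpP H V) (L : Ω → Subgroup H)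
    (hL : ∀ (h : H) (i : Ω) (g : H), g ∈ L i → h * g * h⁻¹ ∈ L (h • i))
    (hcomm : ∀ i j, i ≠ j → ∀ a ∈ L i, ∀ b ∈ L j, a * b = b * a)
    (hexp : ∀ v : V, q • v = 0) (hq : ∀ i, (Nat.card (L i)).Coprime q)
    (hnc : ∀ i, ∃ a ∈ L i, ∃ b ∈ L i, ∃ v : V, a • b • v ≠ b • a • v)
    (hN : ∀ N : Subgroup H, N.Normal → N ≠ ⊤ → p ∣ N.index)
    (P1 : ∀ v : V, ¬ p ∣ (stabilizer H v).index) : False := by
  obtain ⟨κ, h1, h2⟩ := label_uneq (Ω := Ω) P hp.out hp2 hN
  obtain ⟨v, hv⟩ := exists_vec_group hirr hni L hL hcomm hexp hq hnc κ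
  exact not_dvd_of_classes hp2 (S := stabilizer H v) (fun h hh => hv h (mem_stabilizer_iff.1 hh)) h2 (P1 v) h1

end vec

end Cfsg.Agent.H229.NX
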