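import Mathlib
import Cfsg.Agent.H229.NX.Skel
import Cfsg.Agent.H37.NX.Main

/-!
# S4979: `NoCoreI` from the three layers

With `H37.NX.s4979_final` this is the whole theorem: the hypotheses that remain are `Pow` (S3513), the Schreier property
(S0000 and `Schreier.Assembly.known`) and the layers (I), (A), (B).
-/

set_option autoImplicit false

open Cfsg

namespace Cfsg.Agent.H229.NX

universe u

theorem noCoreI_of_layers (P : Pow) {p q : ℕ} [hp : Fact p.Prime] [hq : Fact q.Prime]
    (hSch : ∀ (S : Type u) [Group S] [Finite S], IsSimpleGroup S → ¬ IsMulCommutative S →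
      Cfsg.Agent.Schreier.Basic.Sch S)
    (hI : LayerI.{u} p q) (hA : LayerA.{u} p q) (hB : LayerB.{u} p q) :
    Cfsg.Agent.H37.NX.NoCoreI.{u} p q :=
  Cfsg.Agent.H37.NX.noCoreI_of_noCore2c (noCore2c_of_layers P hSch hI hA hB)

end Cfsg.Agent.H229.NX
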